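import Cfsg.Agent.H46.Fi23Out.Data

/-!
Kernel checks for automorphisms of the Fischer group on 31671 points.
-/

set_option autoImplicit false
set_option Elab.async false
set_option maxRecDepth 100000

namespace Cfsg.Agent.H46.Fi23Out

open Cfsg.Agent.H25.Fi23
open Cfsg.Agent.H45 (force force_eq bget)

/-- the letters of the stabiliser -/
def subG : List (List ℕ) := [[0], [1], [2], [3], [4], [5], [6], [8], [9]]

theorem base_ok : Nat.beq (walkV t31 Data.u0 0) base = true ∧
    (Data.u0.all fun l => Nat.blt l 10) = true ∧ inS base = true ∧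
    Nat.beq (tgt t31 0 7) 1 = true ∧ Nat.beq (zget 1) 8006 = true ∧
    inS (ptOf [1, 0]) = true ∧ Nat.beq (tgt t31 (ptOf [1, 0]) 0) (ptOf [1, 0]) = false ∧
    inS 1 = false := by decide +kernel

theorem cu_S : ([0, 1, 2, 3, 4, 5, 6, 8, 9].all fun l => inS (ptOf (Data.cu.getD l []))) = true ∧
    inS (ptOf (Data.cu.getD 7 [])) = false ∧ Nat.beq (tgt t31 0 7) 0 = false := by decide +kernel

theorem cu_ok : (Data.cu == [[], [1, 0], [1, 0, 2, 1], [1, 0, 2, 1, 3, 2], [1, 0, 2, 1, 3, 2, 4, 3],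
    [1, 0, 2, 1, 3, 2, 4, 3, 5, 4], [1, 0, 2, 1, 3, 2, 4, 3, 5, 4, 6, 5],
    [1, 0, 2, 1, 3, 2, 4, 3, 5, 4, 6, 5, 7, 6], [1, 0, 2, 1, 3, 2, 8, 3],
    [1, 0, 2, 1, 3, 2, 8, 3, 9, 8]]) = true := by decide +kernel

theorem cu_distinct : ((List.range 10).map fun l => ptOf (Data.cu.getD l [])).Nodup := by
  decide +kernel

theorem stS_ok : covers C31671.cert subG [(base, Data.stS)] inS = true := by decide +kernel

theorem stR_ok : covers C31671.cert subG [(1, Data.stR)]
    (fun x => andB (!Nat.beq x 0) (!inS x)) = true := by decide +kernel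

theorem fixR_ok : allLt (fun x =>
    ifB ([0, 1, 2, 3, 4, 5, 8, 9].all fun l => Nat.beq (tgt t31 x l) x)
      (Nat.beq x 1 || Nat.beq x 8006 || Nat.beq x 0 || inS x) true) 31671 = true ∧
    ([0, 1, 2, 3, 4, 5, 8, 9].all fun l => Nat.beq (tgt t31 1 l) 1) = true := by decide +kernel

end Cfsg.Agent.H46.Fi23Out
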