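import Cfsg.Agent.H46.Fi23Out.CertA

/-!
Kernel checks for automorphisms of the Fischer group on 31671 points.
-/

set_option autoImplicit false
set_option Elab.async false
set_option maxRecDepth 100000

namespace Cfsg.Agent.H46.Fi23Out

open Cfsg.Agent.H25.Fi23
open Cfsg.Agent.H45 (force force_eq bget)

theorem vq_lt : (Data.vq.all fun l => Nat.blt l 10) = true ∧ inS (ptOf Data.vq) = true := by
  decide +kernel

theorem stQ_ok : covers C31671.cert [Data.g13, conjW Data.vq] [(ptOf Data.vq, Data.stQ)] inS = true := by
  decide +kernel

theorem cyc_cover_ok : covers C31671.cert [Data.g13]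
    (Data.cyc.map fun c => (ptOf (c.rep Data.vq), c.st)) inS = true := by decide +kernel

theorem cyc_ok : (Data.cyc.all fun c => c.ok Data.colG Data.vq) = true := by decide +kernel

end Cfsg.Agent.H46.Fi23Out
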