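import Cfsg.Agent.H46.Fi23Out.CertC2

/-!
Kernel checks for automorphisms of the Fischer group on 31671 points.
-/

set_option autoImplicit false
set_option Elab.async false
set_option maxRecDepth 100000

namespace Cfsg.Agent.H46.Fi23Out

open Cfsg.Agent.H25.Fi23
open Cfsg.Agent.H45 (force force_eq bget)

/-- the mask of a list -/
noncomputable def maskL : List ℕ → ℕ :=
  List.rec 0 fun x _ ih => Nat.lor ih (Nat.shiftLeft 1 x)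

theorem SL_ok : allLt (fun x => ifB (inS x) (bget (maskL Data.SL) x) true) 31671 = true := by
  decide +kernel

theorem ok0 : chk Data.cu Data.SL Data.t0 [(7, [1, 0, 2, 1, 3, 2, 4, 3, 5, 4, 6, 5, 7, 6]), (6, [1, 0, 2, 1, 3, 2, 4, 3, 5, 4, 6, 5]), (5, [1, 0, 2, 1, 3, 2, 4, 3, 5, 4]), (4, [1, 0, 2, 1, 3, 2, 4, 3]), (9, [1, 0, 2, 1, 3, 2, 8, 3, 9, 8]), (8, [1, 0, 2, 1, 3, 2, 8, 3]), (3, [1, 0, 2, 1, 3, 2]), (2, [1, 0, 2, 1]), (1, [1, 0]), (0, [])] 0 = true := by decide +kernel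

theorem ok1 : chk Data.cu Data.SL Data.t1 [(6, [1, 0, 2, 1, 3, 2, 4, 3, 5, 4, 6, 5]), (5, [1, 0, 2, 1, 3, 2, 4, 3, 5, 4]), (4, [1, 0, 2, 1, 3, 2, 4, 3]), (9, [1, 0, 2, 1, 3, 2, 8, 3, 9, 8]), (8, [1, 0, 2, 1, 3, 2, 8, 3]), (3, [1, 0, 2, 1, 3, 2]), (2, [1, 0, 2, 1]), (1, [1, 0]), (0, [])] 0 = true :=
  chk_node node1 (chk_kid rfl (by decide) ok0 rfl)

theorem ok2 : chk Data.cu Data.SL Data.t2 [(5, [1, 0, 2, 1, 3, 2, 4, 3, 5, 4]), (4, [1, 0, 2, 1, 3, 2, 4, 3]), (9, [1, 0, 2, 1, 3, 2, 8, 3, 9, 8]), (8, [1, 0, 2, 1, 3, 2, 8, 3]), (3, [1, 0, 2, 1, 3, 2]), (2, [1, 0, 2, 1]), (1, [1, 0]), (0, [])] 0 = true :=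
  chk_node node2 (chk_kid rfl (by decide) ok1 rfl)

theorem ok3 : chk Data.cu Data.SL Data.t3 [(4, [1, 0, 2, 1, 3, 2, 4, 3]), (9, [1, 0, 2, 1, 3, 2, 8, 3, 9, 8]), (8, [1, 0, 2, 1, 3, 2, 8, 3]), (3, [1, 0, 2, 1, 3, 2]), (2, [1, 0, 2, 1]), (1, [1, 0]), (0, [])] 0 = true :=
  chk_node node3 (chk_kid rfl (by decide) ok2 rfl)

theorem ok4 : chk Data.cu Data.SL Data.t4 [(9, [1, 0, 2, 1, 3, 2, 8, 3, 9, 8]), (8, [1, 0, 2, 1, 3, 2, 8, 3]), (3, [1, 0, 2, 1, 3, 2]), (2, [1, 0, 2, 1]), (1, [1, 0]), (0, [])] 0 = true :=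
  chk_node node4 (chk_kid rfl (by decide) ok3 rfl)

theorem ok5 : chk Data.cu Data.SL Data.t5 [(8, [1, 0, 2, 1, 3, 2, 8, 3]), (3, [1, 0, 2, 1, 3, 2]), (2, [1, 0, 2, 1]), (1, [1, 0]), (0, [])] 0 = true :=
  chk_node node5 (chk_kid rfl (by decide) ok4 rfl)

theorem ok6 : chk Data.cu Data.SL Data.t6 [(5, [1, 0, 2, 1, 3, 2, 8, 3, 9, 8]), (4, [1, 0, 2, 1, 3, 2, 8, 3]), (9, [1, 0, 2, 1, 3, 2, 4, 3, 5, 4]), (8, [1, 0, 2, 1, 3, 2, 4, 3]), (3, [1, 0, 2, 1, 3, 2]), (2, [1, 0, 2, 1]), (1, [1, 0]), (0, [])] 0 = true :=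
  chk_node node6 rfl

theorem ok7 : chk Data.cu Data.SL Data.t7 [(4, [1, 0, 2, 1, 3, 2, 8, 3]), (9, [1, 0, 2, 1, 3, 2, 4, 3, 5, 4]), (8, [1, 0, 2, 1, 3, 2, 4, 3]), (3, [1, 0, 2, 1, 3, 2]), (2, [1, 0, 2, 1]), (1, [1, 0]), (0, [])] 0 = true :=
  chk_node node7 (chk_kid rfl (by decide) ok6 rfl)

theorem ok8 : chk Data.cu Data.SL Data.t8 [(5, [1, 0, 2, 1, 3, 2, 8, 3, 9, 8]), (4, [1, 2, 3, 4, 5, 6, 8, 3, 2, 1, 4, 3, 2, 5, 4, 3]), (9, [1, 0, 2, 1, 3, 2, 4, 3, 5, 4]), (8, [1, 0, 2, 1, 3, 2, 4, 3]), (3, [1, 0, 2, 1, 3, 2]), (2, [1, 0, 2, 1]), (1, [1, 0]), (0, [])] 0 = true :=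
  chk_node node8 rfl

theorem ok9 : chk Data.cu Data.SL Data.t9 [(4, [1, 2, 3, 4, 5, 6, 8, 3, 2, 1, 4, 3, 2, 5, 4, 3]), (9, [1, 0, 2, 1, 3, 2, 4, 3, 5, 4]), (8, [1, 0, 2, 1, 3, 2, 4, 3]), (3, [1, 0, 2, 1, 3, 2]), (2, [1, 0, 2, 1]), (1, [1, 0]), (0, [])] 0 = true :=
  chk_node node9 (chk_kid rfl (by decide) ok8 rfl)

theorem ok10 : chk Data.cu Data.SL Data.t10 [(4, [1, 2, 3, 4, 5, 6, 8, 3, 2, 1, 4, 3, 2, 5, 4, 3, 9, 8]), (9, [1, 0, 2, 1, 3, 2, 4, 3, 5, 4]), (8, [1, 0, 2, 1, 3, 2, 4, 3]), (3, [1, 0, 2, 1, 3, 2]), (2, [1, 0, 2, 1]), (1, [1, 0]), (0, [])] 0 = true :=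
  chk_node node10 rfl

theorem ok11 : chk Data.cu Data.SL Data.t11 [(9, [1, 0, 2, 1, 3, 2, 4, 3, 5, 4]), (8, [1, 0, 2, 1, 3, 2, 4, 3]), (3, [1, 0, 2, 1, 3, 2]), (2, [1, 0, 2, 1]), (1, [1, 0]), (0, [])] 0 = true :=
  chk_node node11 (chk_kid rfl (by decide) ok7 (chk_kid rfl (by decide) ok9 (chk_kid rfl (by decide) ok10 rfl)))

theorem ok12 : chk Data.cu Data.SL Data.t12 [(8, [1, 0, 2, 1, 3, 2, 4, 3]), (3, [1, 0, 2, 1, 3, 2]), (2, [1, 0, 2, 1]), (1, [1, 0]), (0, [])] 0 = true :=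
  chk_node node12 (chk_kid rfl (by decide) ok11 rfl)

theorem ok13 : chk Data.cu Data.SL Data.t13 [(6, [1, 0, 2, 1, 3, 2, 4, 3, 5, 4, 6, 5]), (5, [1, 0, 2, 1, 3, 2, 4, 3, 5, 4]), (4, [1, 0, 2, 1, 3, 2, 4, 3]), (9, [1, 0, 2, 1, 3, 2, 8, 3, 9, 8]), (8, [1, 2, 3, 4, 5, 6, 8, 3, 2, 1, 4, 3, 2, 5, 4, 3]), (3, [1, 0, 2, 1, 3, 2]), (2, [1, 0, 2, 1]), (1, [1, 0]), (0, [])] 0 = true :=
  chk_node node13 rfl

theorem ok14 : chk Data.cu Data.SL Data.t14 [(5, [1, 0, 2, 1, 3, 2, 4, 3, 5, 4]), (4, [1, 0, 2, 1, 3, 2, 4, 3]), (9, [1, 0, 2, 1, 3, 2, 8, 3, 9, 8]), (8, [1, 2, 3, 4, 5, 6, 8, 3, 2, 1, 4, 3, 2, 5, 4, 3]), (3, [1, 0, 2, 1, 3, 2]), (2, [1, 0, 2, 1]), (1, [1, 0]), (0, [])] 0 = true :=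
  chk_node node14 (chk_kid rfl (by decide) ok13 rfl)

theorem ok15 : chk Data.cu Data.SL Data.t15 [(4, [1, 0, 2, 1, 3, 2, 4, 3]), (9, [1, 0, 2, 1, 3, 2, 8, 3, 9, 8]), (8, [1, 2, 3, 4, 5, 6, 8, 3, 2, 1, 4, 3, 2, 5, 4, 3]), (3, [1, 0, 2, 1, 3, 2]), (2, [1, 0, 2, 1]), (1, [1, 0]), (0, [])] 0 = true :=
  chk_node node15 (chk_kid rfl (by decide) ok14 rfl)

theorem ok16 : chk Data.cu Data.SL Data.t16 [(9, [1, 0, 2, 1, 3, 2, 8, 3, 9, 8]), (8, [1, 2, 3, 4, 5, 6, 8, 3, 2, 1, 4, 3, 2, 5, 4, 3]), (3, [1, 0, 2, 1, 3, 2]), (2, [1, 0, 2, 1]), (1, [1, 0]), (0, [])] 0 = true :=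
  chk_node node16 (chk_kid rfl (by decide) ok15 rfl)

theorem ok17 : chk Data.cu Data.SL Data.t17 [(8, [1, 2, 3, 4, 5, 6, 8, 3, 2, 1, 4, 3, 2, 5, 4, 3]), (3, [1, 0, 2, 1, 3, 2]), (2, [1, 0, 2, 1]), (1, [1, 0]), (0, [])] 0 = true :=
  chk_node node17 (chk_kid rfl (by decide) ok16 rfl)

theorem ok18 : chk Data.cu Data.SL Data.t18 [(3, [1, 0, 2, 1, 3, 2]), (2, [1, 0, 2, 1]), (1, [1, 0]), (0, [])] 0 = true :=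
  chk_node node18 (chk_kid rfl (by decide) ok5 (chk_kid rfl (by decide) ok12 (chk_kid rfl (by decide) ok17 rfl)))

theorem ok19 : chk Data.cu Data.SL Data.t19 [(2, [1, 0, 2, 1]), (1, [1, 0]), (0, [])] 0 = true :=
  chk_node node19 (chk_kid rfl (by decide) ok18 rfl)

theorem ok20 : chk Data.cu Data.SL Data.t20 [(1, [1, 0]), (0, [])] 0 = true :=
  chk_node node20 (chk_kid rfl (by decide) ok19 rfl)

theorem ok21 : chk Data.cu Data.SL Data.t21 [(0, [])] 0 = true :=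
  chk_node node21 (chk_kid rfl (by decide) ok20 rfl)

theorem ok22 : chk Data.cu Data.SL Data.t22 [] 0 = true :=
  chk_node node22 (chk_kid rfl (by decide) ok21 rfl)

theorem tree_ok : chk Data.cu Data.SL Data.tree [] 0 = true := ok22

end Cfsg.Agent.H46.Fi23Out
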