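import Cfsg.Agent.H46.Fi23Out.Defs

/-!
Composition of the checks of a rigidity tree.
-/

set_option autoImplicit false

namespace Cfsg.Agent.H46.Fi23Out

open Cfsg.Agent.H25.Fi23

variable {cu : List (List ℕ)} {SL : List ℕ} {d : List (ℕ × List ℕ)} {k : ℕ}

/-- the check of one node without its children -/
noncomputable def nodeOK (cu : List (List ℕ)) (SL : List ℕ) (k : ℕ) (gens : List (List ℕ))
    (kids : RTree) (d : List (ℕ × List ℕ)) : Bool :=
  Nat.blt k 10 && (d.all fun ju => !Nat.beq ju.1 k) &&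
    (gens.all fun g => (g.all fun l => Nat.blt l 10) && Nat.beq (walkV t31 g 0) 0 &&
      d.all fun ju => Nat.beq (walkV t31 g (ptOf ju.2)) (ptOf ju.2)) &&
    nodeCov cu SL k gens kids d

theorem chk_node {gens : List (List ℕ)} {kids : RTree} {k' : ℕ}
    (h₁ : nodeOK cu SL k gens kids d = true) (h₂ : chk cu SL kids d k = true) :
    chk cu SL (.node k gens kids) d k' = true := by
  simp only [nodeOK] at h₁
  simp only [chk, Bool.and_eq_true] at h₁ ⊢
  exact ⟨h₁, h₂⟩

theorem chk_kid {u st : List ℕ} {sub next : RTree} (h₀ : sub.main = true)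
    (h₁ : (u.all fun l => Nat.blt l 10) = true) (h₂ : chk cu SL sub ((k, u) :: d) 0 = true)
    (h₃ : chk cu SL next d k = true) : chk cu SL (.kid u st sub next) d k = true := by
  simp only [chk, Bool.and_eq_true]
  exact ⟨⟨⟨h₀, h₁⟩, h₂⟩, h₃⟩

end Cfsg.Agent.H46.Fi23Out
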