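import Cfsg.Agent.H46.Fi23Out.Data
import Cfsg.Agent.H46.Fi23Out.Compose

/-!
Kernel checks for automorphisms of the Fischer group on 31671 points.
-/

set_option autoImplicit false
set_option Elab.async false
set_option maxRecDepth 100000

namespace Cfsg.Agent.H46.Fi23Out

open Cfsg.Agent.H25.Fi23
open Cfsg.Agent.H45 (force force_eq bget)

theorem node1 : (match Data.t1 with
    | .node k gens kids => nodeOK Data.cu Data.SL k gens kids [(6, [1, 0, 2, 1, 3, 2, 4, 3, 5, 4, 6, 5]), (5, [1, 0, 2, 1, 3, 2, 4, 3, 5, 4]), (4, [1, 0, 2, 1, 3, 2, 4, 3]), (9, [1, 0, 2, 1, 3, 2, 8, 3, 9, 8]), (8, [1, 0, 2, 1, 3, 2, 8, 3]), (3, [1, 0, 2, 1, 3, 2]), (2, [1, 0, 2, 1]), (1, [1, 0]), (0, [])]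
    | _ => false) = true := by decide +kernel

theorem node2 : (match Data.t2 with
    | .node k gens kids => nodeOK Data.cu Data.SL k gens kids [(5, [1, 0, 2, 1, 3, 2, 4, 3, 5, 4]), (4, [1, 0, 2, 1, 3, 2, 4, 3]), (9, [1, 0, 2, 1, 3, 2, 8, 3, 9, 8]), (8, [1, 0, 2, 1, 3, 2, 8, 3]), (3, [1, 0, 2, 1, 3, 2]), (2, [1, 0, 2, 1]), (1, [1, 0]), (0, [])]
    | _ => false) = true := by decide +kernel

theorem node3 : (match Data.t3 with
    | .node k gens kids => nodeOK Data.cu Data.SL k gens kids [(4, [1, 0, 2, 1, 3, 2, 4, 3]), (9, [1, 0, 2, 1, 3, 2, 8, 3, 9, 8]), (8, [1, 0, 2, 1, 3, 2, 8, 3]), (3, [1, 0, 2, 1, 3, 2]), (2, [1, 0, 2, 1]), (1, [1, 0]), (0, [])]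
    | _ => false) = true := by decide +kernel

theorem node4 : (match Data.t4 with
    | .node k gens kids => nodeOK Data.cu Data.SL k gens kids [(9, [1, 0, 2, 1, 3, 2, 8, 3, 9, 8]), (8, [1, 0, 2, 1, 3, 2, 8, 3]), (3, [1, 0, 2, 1, 3, 2]), (2, [1, 0, 2, 1]), (1, [1, 0]), (0, [])]
    | _ => false) = true := by decide +kernel

theorem node5 : (match Data.t5 with
    | .node k gens kids => nodeOK Data.cu Data.SL k gens kids [(8, [1, 0, 2, 1, 3, 2, 8, 3]), (3, [1, 0, 2, 1, 3, 2]), (2, [1, 0, 2, 1]), (1, [1, 0]), (0, [])]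
    | _ => false) = true := by decide +kernel

theorem node6 : (match Data.t6 with
    | .node k gens kids => nodeOK Data.cu Data.SL k gens kids [(5, [1, 0, 2, 1, 3, 2, 8, 3, 9, 8]), (4, [1, 0, 2, 1, 3, 2, 8, 3]), (9, [1, 0, 2, 1, 3, 2, 4, 3, 5, 4]), (8, [1, 0, 2, 1, 3, 2, 4, 3]), (3, [1, 0, 2, 1, 3, 2]), (2, [1, 0, 2, 1]), (1, [1, 0]), (0, [])]
    | _ => false) = true := by decide +kernel

theorem node7 : (match Data.t7 with
    | .node k gens kids => nodeOK Data.cu Data.SL k gens kids [(4, [1, 0, 2, 1, 3, 2, 8, 3]), (9, [1, 0, 2, 1, 3, 2, 4, 3, 5, 4]), (8, [1, 0, 2, 1, 3, 2, 4, 3]), (3, [1, 0, 2, 1, 3, 2]), (2, [1, 0, 2, 1]), (1, [1, 0]), (0, [])]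
    | _ => false) = true := by decide +kernel

theorem node8 : (match Data.t8 with
    | .node k gens kids => nodeOK Data.cu Data.SL k gens kids [(5, [1, 0, 2, 1, 3, 2, 8, 3, 9, 8]), (4, [1, 2, 3, 4, 5, 6, 8, 3, 2, 1, 4, 3, 2, 5, 4, 3]), (9, [1, 0, 2, 1, 3, 2, 4, 3, 5, 4]), (8, [1, 0, 2, 1, 3, 2, 4, 3]), (3, [1, 0, 2, 1, 3, 2]), (2, [1, 0, 2, 1]), (1, [1, 0]), (0, [])]
    | _ => false) = true := by decide +kernel

theorem node9 : (match Data.t9 with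
    | .node k gens kids => nodeOK Data.cu Data.SL k gens kids [(4, [1, 2, 3, 4, 5, 6, 8, 3, 2, 1, 4, 3, 2, 5, 4, 3]), (9, [1, 0, 2, 1, 3, 2, 4, 3, 5, 4]), (8, [1, 0, 2, 1, 3, 2, 4, 3]), (3, [1, 0, 2, 1, 3, 2]), (2, [1, 0, 2, 1]), (1, [1, 0]), (0, [])]
    | _ => false) = true := by decide +kernel

theorem node10 : (match Data.t10 with
    | .node k gens kids => nodeOK Data.cu Data.SL k gens kids [(4, [1, 2, 3, 4, 5, 6, 8, 3, 2, 1, 4, 3, 2, 5, 4, 3, 9, 8]), (9, [1, 0, 2, 1, 3, 2, 4, 3, 5, 4]), (8, [1, 0, 2, 1, 3, 2, 4, 3]), (3, [1, 0, 2, 1, 3, 2]), (2, [1, 0, 2, 1]), (1, [1, 0]), (0, [])]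
    | _ => false) = true := by decide +kernel

theorem node11 : (match Data.t11 with
    | .node k gens kids => nodeOK Data.cu Data.SL k gens kids [(9, [1, 0, 2, 1, 3, 2, 4, 3, 5, 4]), (8, [1, 0, 2, 1, 3, 2, 4, 3]), (3, [1, 0, 2, 1, 3, 2]), (2, [1, 0, 2, 1]), (1, [1, 0]), (0, [])]
    | _ => false) = true := by decide +kernel

end Cfsg.Agent.H46.Fi23Out
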