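import Cfsg.Agent.H25.Fi23.Relators

/-!
Orbit covers and rigidity trees for a table of cosets packed in a trie.
-/

set_option autoImplicit false

namespace Cfsg.Agent.H46.Fi23Out

open Cfsg.Agent.H25.Fi23
open Cfsg.Agent.H45 (force force_eq evalW evalW_cons evalW_nil evalW_append bget bget_set bget_eq)

/-- the word of the conjugate of letter `0` given by `v` -/
def conjW (v : List ℕ) : List ℕ := v.reverse ++ 0 :: v

/-- all numbers below a bound -/
noncomputable def allLt (p : ℕ → Bool) : ℕ → Bool :=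
  Nat.rec true fun i ih => andB (force i p) ih

/-- all numbers of an interval -/
noncomputable def allIv (p : ℕ → Bool) (a : ℕ) : ℕ → Bool :=
  Nat.rec true fun j ih => andB (force (a + j) p) ih

theorem allLt_sound {p : ℕ → Bool} : ∀ {m : ℕ}, allLt p m = true → ∀ i, i < m → p i = true := by
  intro m
  induction m with
  | zero => intro _ i hi; omega
  | succ m ih =>
    intro h i hi
    rw [show allLt p (m + 1) = andB (force m p) (allLt p m) from rfl, andB_eq, force_eq,
      Bool.and_eq_true] at h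
    rcases Nat.lt_succ_iff_lt_or_eq.mp hi with hi | rfl
    · exact ih h.2 i hi
    · exact h.1

theorem allIv_sound {p : ℕ → Bool} {a : ℕ} : ∀ {m : ℕ}, allIv p a m = true →
    ∀ i, a ≤ i → i < a + m → p i = true := by
  intro m
  induction m with
  | zero => intro _ i h1 h2; omega
  | succ m ih =>
    intro h i h1 h2
    rw [show allIv p a (m + 1) = andB (force (a + m) p) (allIv p a m) from rfl, andB_eq, force_eq,
      Bool.and_eq_true] at h
    rcases Nat.lt_or_ge i (a + m) with h3 | h3
    · exact ih h.2 i h1 h3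
    · obtain rfl : i = a + m := by omega
      exact h.1

/-- all entries of a list, soundness -/
theorem allMem_sound {p : ℕ → Bool} : ∀ {L : List ℕ},
    (List.rec true (fun x _ ih => andB (force x p) ih) L : Bool) = true → ∀ i ∈ L, p i = true := by
  intro L
  induction L with
  | nil => intro _ i hi; simp at hi
  | cons x L ih =>
    intro h i hi
    change andB (force x p) (List.rec true (fun x _ ih => andB (force x p) ih) L : Bool) = true at h
    rw [andB_eq, force_eq, Bool.and_eq_true] at h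
    rcases List.mem_cons.mp hi with rfl | hi
    · exact h.1
    · exact ih h.2 i hi

/-- one orbit step for generators given by words -/
noncomputable def wStep (t : Tr) (n : ℕ) (gs : List (List ℕ)) (K s : ℕ) (k : ℕ → Bool) : Bool :=
  force (Nat.shiftRight s 8) fun p => force (Nat.land s 255) fun i =>
    andB (Nat.blt i gs.length) (andB (bget K p) (walk t (gs.getD i []) p fun q =>
      andB (!bget K q) (andB (Nat.blt q n) (force (Nat.lor K (Nat.shiftLeft 1 q)) k))))

/-- a chunk of packed steps -/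
noncomputable def wChunk (t : Tr) (n : ℕ) (gs : List (List ℕ)) (fuel : ℕ) :
    ℕ → ℕ → (ℕ → Bool) → Bool :=
  Nat.rec (fun _ _ _ => false)
    (fun _ ih c K k => ifB (Nat.beq c 0) (k K)
      (force (Nat.xor (Nat.land c 16777215) 8388608) fun s => wStep t n gs K s fun K' =>
        force (Nat.shiftRight c 24) fun c' => ih c' K' k)) fuel

/-- all chunks of one orbit -/
noncomputable def wAll (t : Tr) (n : ℕ) (gs : List (List ℕ)) : List ℕ → ℕ → (ℕ → Bool) → Bool
  | [], K, k => k K
  | c :: cs, K, k => wChunk t n gs 200 c K fun K' => wAll t n gs cs K' k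

/-- union of orbit searches -/
noncomputable def covK (t : Tr) (n : ℕ) (gs : List (List ℕ)) :
    List (ℕ × List ℕ) → ℕ → (ℕ → Bool) → Bool
  | [], A, k => k A
  | (b, st) :: r, A, k =>
    andB (Nat.blt b n) (wAll t n gs st (0 ||| (1 <<< b)) fun K =>
      force (A ||| K) fun A' => covK t n gs r A' k)

/-- all entries of a list -/
noncomputable def allMem (p : ℕ → Bool) : List ℕ → Bool :=
  List.rec true fun x _ ih => andB (force x p) ih

/-- every point of a list with the property lies in one of the orbits -/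
noncomputable def coversL (C : Cert) (L : List ℕ) (gs : List (List ℕ)) (kids : List (ℕ × List ℕ))
    (pred : ℕ → Bool) : Bool :=
  covK C.t C.n gs kids 0 fun A => allMem (fun i => ifB (pred i) (bget A i) true) L

/-- every point with the property lies in one of the orbits -/
noncomputable def covers (C : Cert) (gs : List (List ℕ)) (kids : List (ℕ × List ℕ))
    (pred : ℕ → Bool) : Bool :=
  covK C.t C.n gs kids 0 fun A => allLt (fun i => ifB (pred i) (bget A i) true) C.n

variable {C : Cert}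

/-- the points of an orbit search -/
def WInv (hC : C.OK) (gs : List (List ℕ)) (b : Fin C.n) (K : ℕ) : Prop :=
  ∀ q : ℕ, bget K q = true → ∃ x : Fin C.n, (x : ℕ) = q ∧
    ∀ Y : Subgroup (Equiv.Perm (Fin C.n)), (∀ g ∈ gs, evalW (sg hC) g ∈ Y) →
      x ∈ MulAction.orbit Y b

variable (hC : C.OK) {gs : List (List ℕ)} (hgs : ∀ g ∈ gs, ∀ l ∈ g, l < C.L)
include hgs

theorem wStep_sound {b : Fin C.n} {K s : ℕ} {k : ℕ → Bool} (hK : WInv hC gs b K)
    (h : wStep C.t C.n gs K s k = true) : ∃ K', k K' = true ∧ WInv hC gs b K' := by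
  simp only [wStep, andB_eq, force_eq, walk_eq, Bool.and_eq_true, Nat.blt_eq,
    Bool.not_eq_true'] at h
  obtain ⟨hi, hp, -, hqn, hk⟩ := h
  obtain ⟨x, hxp, hx⟩ := hK _ hp
  refine ⟨_, hk, fun q hq => ?_⟩
  rw [bget_eq] at hq
  change (K ||| (1 <<< _)).testBit q = true at hq
  rw [Nat.testBit_or, Bool.or_eq_true, ← bget_eq] at hq
  rcases hq with hq | hq
  · exact hK q hq
  rw [Nat.one_shiftLeft, Nat.testBit_two_pow, decide_eq_true_eq] at hq
  have hmem : gs.getD (Nat.land s 255) [] ∈ gs := by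
    rw [List.getD_eq_getElem _ _ hi]; exact List.getElem_mem hi
  refine ⟨(evalW (sg hC) (gs.getD (Nat.land s 255) []))⁻¹ x, ?_, fun Y hY => ?_⟩
  · rw [sg_walk hC _ (hgs _ hmem), hxp]; exact hq
  · exact H45.orbit_closed_step (Y.inv_mem (hY _ hmem)) (hx Y hY)

theorem wChunk_sound {b : Fin C.n} : ∀ (fuel c K : ℕ) (k : ℕ → Bool), WInv hC gs b K →
    wChunk C.t C.n gs fuel c K k = true → ∃ K', k K' = true ∧ WInv hC gs b K' := by
  intro fuel
  induction fuel with
  | zero => intro c K k _ h; simp [wChunk] at h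
  | succ fuel ih =>
    intro c K k hK h
    rw [show wChunk C.t C.n gs (fuel + 1) c K k = ifB (Nat.beq c 0) (k K)
      (force (Nat.xor (Nat.land c 16777215) 8388608) fun s => wStep C.t C.n gs K s fun K' =>
        force (Nat.shiftRight c 24) fun c' => wChunk C.t C.n gs fuel c' K' k) from rfl, ifB_eq] at h
    cases hb : Nat.beq c 0
    · simp only [hb, cond_false, force_eq] at h
      obtain ⟨K', hk, hK'⟩ := wStep_sound hC hgs hK h
      exact ih _ _ _ hK' hk
    · simp only [hb, cond_true] at h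
      exact ⟨K, h, hK⟩

theorem wAll_sound {b : Fin C.n} : ∀ (cs : List ℕ) (K : ℕ) (k : ℕ → Bool), WInv hC gs b K →
    wAll C.t C.n gs cs K k = true → ∃ K', k K' = true ∧ WInv hC gs b K' := by
  intro cs
  induction cs with
  | nil => intro K k hK h; exact ⟨K, h, hK⟩
  | cons c cs ih =>
    intro K k hK h
    simp only [wAll] at h
    obtain ⟨K', h', hK'⟩ := wChunk_sound hC hgs _ _ _ _ hK h
    exact ih _ _ hK' h'

theorem covK_sound : ∀ (kids : List (ℕ × List ℕ)) (A : ℕ) (k : ℕ → Bool),
    covK C.t C.n gs kids A k = true →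
      ∃ A', k A' = true ∧ ∀ q, bget A' q = true → bget A q = true ∨
        ∃ bs ∈ kids, ∃ hb : bs.1 < C.n, ∃ x : Fin C.n, (x : ℕ) = q ∧
          ∀ Y : Subgroup (Equiv.Perm (Fin C.n)), (∀ g ∈ gs, evalW (sg hC) g ∈ Y) →
            x ∈ MulAction.orbit Y (⟨bs.1, hb⟩ : Fin C.n) := by
  intro kids
  induction kids with
  | nil => intro A k h; exact ⟨A, h, fun q hq => Or.inl hq⟩
  | cons bs r ih =>
    obtain ⟨b, st⟩ := bs
    intro A k h
    simp only [covK, andB_eq, Bool.and_eq_true, Nat.blt_eq] at h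
    obtain ⟨hb, h'⟩ := h
    have h0 : WInv hC gs ⟨b, hb⟩ (0 ||| (1 <<< b)) := by
      intro q hq
      rw [bget_set, bget_eq] at hq
      simp at hq
      exact ⟨⟨b, hb⟩, hq, fun Y _ => MulAction.mem_orbit_self _⟩
    obtain ⟨K, hk, hK⟩ := wAll_sound hC hgs _ _ _ h0 h'
    rw [force_eq] at hk
    obtain ⟨A', hA', hsub⟩ := ih _ _ hk
    refine ⟨A', hA', fun q hq => ?_⟩
    rcases hsub q hq with h1 | ⟨bs, hbs, h2⟩
    · rw [bget_eq, Nat.testBit_or, Bool.or_eq_true, ← bget_eq, ← bget_eq] at h1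
      rcases h1 with h1 | h1
      · exact Or.inl h1
      · obtain ⟨x, hxq, hx⟩ := hK q h1
        exact Or.inr ⟨(b, st), List.mem_cons_self, hb, x, hxq, hx⟩
    · exact Or.inr ⟨bs, List.mem_cons_of_mem _ hbs, h2⟩

theorem covers_sound {kids : List (ℕ × List ℕ)} {pred : ℕ → Bool}
    (h : covers C gs kids pred = true) (x : Fin C.n) (hx : pred x = true) :
    ∃ bs ∈ kids, ∃ hb : bs.1 < C.n,
      ∀ Y : Subgroup (Equiv.Perm (Fin C.n)), (∀ g ∈ gs, evalW (sg hC) g ∈ Y) →
        x ∈ MulAction.orbit Y (⟨bs.1, hb⟩ : Fin C.n) := by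
  obtain ⟨A, hA, hsub⟩ := covK_sound hC hgs kids 0 _ h
  have h1 := allLt_sound hA x x.isLt
  simp only [ifB_eq, hx, cond_true] at h1
  rcases hsub x h1 with h2 | ⟨bs, hbs, hb, y, hy, h2⟩
  · rw [bget_eq, Nat.zero_testBit] at h2; exact absurd h2 (by simp)
  · obtain rfl : y = x := Fin.ext hy
    exact ⟨bs, hbs, hb, h2⟩

theorem coversL_sound {L : List ℕ} {kids : List (ℕ × List ℕ)} {pred : ℕ → Bool}
    (h : coversL C L gs kids pred = true) (x : Fin C.n) (hx : pred x = true) (hxL : (x : ℕ) ∈ L) :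
    ∃ bs ∈ kids, ∃ hb : bs.1 < C.n,
      ∀ Y : Subgroup (Equiv.Perm (Fin C.n)), (∀ g ∈ gs, evalW (sg hC) g ∈ Y) →
        x ∈ MulAction.orbit Y (⟨bs.1, hb⟩ : Fin C.n) := by
  obtain ⟨A, hA, hsub⟩ := covK_sound hC hgs kids 0 _ h
  have h1 := allMem_sound hA x hxL
  simp only [ifB_eq, hx, cond_true] at h1
  rcases hsub x h1 with h2 | ⟨bs, hbs, hb, y, hy, h2⟩
  · rw [bget_eq, Nat.zero_testBit] at h2; exact absurd h2 (by simp)
  · obtain rfl : y = x := Fin.ext hy
    exact ⟨bs, hbs, hb, h2⟩

end Cfsg.Agent.H46.Fi23Out
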