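import Cfsg.Agent.H46.Fi23Out.Transp
import Cfsg.Agent.H46.Fi23Out.CertB

/-!
An involution commuting with the element of order thirteen is conjugate to the central involution.
-/

set_option autoImplicit false
set_option maxRecDepth 100000

namespace Cfsg.Agent.H46.Fi23Out

open Cfsg.Agent.H25.Fi23
open Cfsg.Agent.H45 (evalW evalW_cons evalW_nil evalW_append force force_eq)

/-- the element of order thirteen -/
noncomputable def gI : G := (evalW e Data.g13)⁻¹

theorem gI_mem_H : gI ∈ H := by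
  refine H.inv_mem ?_
  suffices h : ∀ w : List ℕ, (∀ l ∈ w, l ∈ hLetters) → evalW e w ∈ H from h _ (by decide)
  intro w
  induction w with
  | nil => intro _; rw [evalW_nil]; exact H.one_mem
  | cons a w ih =>
    intro h
    rw [evalW_cons]
    exact H.mul_mem (Subgroup.subset_closure ⟨a, h a (by simp), rfl⟩) (ih fun l hl => h l (by simp [hl]))

theorem comm_seven : ([0, 1, 2, 3, 4, 5, 8, 9].all fun a =>
    decide ([a, 7, a, 7] ∈ pres.R ∨ [7, a, 7, a] ∈ pres.R)) = true := by decide +kernel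

theorem gI_comm_seven : gI * e 7 = e 7 * gI := by
  suffices h : ∀ w : List ℕ, (∀ l ∈ w, l ∈ [0, 1, 2, 3, 4, 5, 8, 9]) →
      Commute (evalW e w) (e 7) from ((h Data.g13 (by decide)).inv_left).eq
  intro w
  induction w with
  | nil => intro _; rw [evalW_nil]; exact Commute.one_left _
  | cons a w ih =>
    intro h
    rw [evalW_cons]
    refine Commute.mul_left ?_ (ih fun l hl => h l (by simp [hl]))
    have h2 := of_decide_eq_true (List.all_eq_true.mp comm_seven a (h a (by simp)))
    have key : ∀ {a b : G}, a * a = 1 → b * b = 1 → a * (b * (a * b)) = 1 → a * b = b * a := by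
      intro a b ha hb hab
      calc a * b = a * b * (a * (b * (a * b)))⁻¹ := by rw [hab, inv_one, mul_one]
        _ = b⁻¹ * a⁻¹ := by group
        _ = b * a := by rw [inv_eq_of_mul_eq_one_right ha, inv_eq_of_mul_eq_one_right hb]
    rcases h2 with h2 | h2
    · exact key (e_sq a) (e_sq 7) (by simpa [evalW] using pres_ok.rel _ h2)
    · exact (key (e_sq 7) (e_sq a) (by simpa [evalW] using pres_ok.rel _ h2)).symm

variable {φ : G →* Equiv.Perm (Fin N)}

theorem Rep.gI_apply (R : Rep φ) (x : Fin N) : (φ gI x : ℕ) = uget Data.colG x := by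
  rw [gI, map_inv, R.walk g13_lt]
  exact (scan_facts x.isLt).1

theorem Rep.gI_iter (R : Rep φ) : ∀ (m : ℕ) (x : Fin N),
    (φ (gI ^ m) x : ℕ) = (uget Data.colG)^[m] x := by
  intro m
  induction m with
  | zero => intro x; simp
  | succ m ih =>
    intro x
    rw [pow_succ, map_mul, Equiv.Perm.mul_apply, ih, R.gI_apply, Function.iterate_succ_apply]

theorem Rep.gI_order (R : Rep φ) : orderOf gI = 13 := by
  have : Fact (Nat.Prime 13) := ⟨by norm_num⟩
  refine orderOf_eq_prime ?_ ?_
  · apply R.inj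
    rw [map_one]
    apply Equiv.ext; intro x; apply Fin.ext
    rw [R.gI_iter]
    exact (scan_facts x.isLt).2.1
  · intro h
    have h1 := R.gI_apply ⟨2, by rw [N_eq]; norm_num⟩
    rw [h, map_one, Equiv.Perm.one_apply] at h1
    have h2 := (scan_facts (show 2 < N by rw [N_eq]; norm_num)).2.2.1 h1.symm
    omega

theorem Rep.gI_comm_z (R : Rep φ) : gI * z = z * gI :=
  Subgroup.mem_centralizer_singleton_iff.mp (R.H_comm gI_mem_H)

theorem inS_SL {x : ℕ} (h : inS x = true) : x ≠ 0 ∧ x ≠ 1 := by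
  constructor <;> rintro rfl
  · simp [inS, andB_eq] at h
  · rw [base_ok.2.2.2.2.2.2.2] at h; exact absurd h (by simp)

/-- an element fixing all commuting conjugates and centralising the stabiliser -/
theorem Rep.centralizer_H (R : Rep φ) {c : G} (hc : H ≤ Subgroup.centralizer {c}) :
    c = 1 ∨ c = z := by
  have hcm : ∀ h ∈ H, h * c = c * h := fun h hh =>
    Subgroup.mem_centralizer_singleton_iff.mp (hc hh)
  have h0 : φ c P0 = P0 := (R.comm_iff_fix0 c).mpr (hcm z z_mem_H).symm
  have hS : ∀ x : Fin N, inS x = true → φ c x = x := by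
    intro x hx
    obtain ⟨h, hh, rfl⟩ := R.S_orbit x hx
    refine R.fixT (Commute.eq ?_)
    rw [cj_mul, ← R.e0_eq]
    have hm : h * e 0 * h⁻¹ ∈ H :=
      H.mul_mem (H.mul_mem hh (Subgroup.subset_closure ⟨0, by decide, rfl⟩)) (H.inv_mem hh)
    exact (hcm _ hm).symm
  have hone : 1 < N := by rw [N_eq]; norm_num
  let b : Fin N := ⟨1, hone⟩
  have key : ∀ s : G, H ≤ Subgroup.centralizer {s} → φ s P0 = P0 →
      (∀ x : Fin N, inS x = true → φ s x = x) → φ s b = b → s = 1 := by
    intro s hs hs0 hsS hsb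
    apply R.inj
    rw [map_one]
    apply Equiv.ext; intro x
    rw [Equiv.Perm.one_apply]
    by_cases hx0 : x = P0
    · subst hx0; exact hs0
    by_cases hx : inS x = true
    · exact hsS x hx
    obtain ⟨bs, hbs, hb', k, hk, rfl⟩ := R.reach H subG_lt subG_mem stR_ok x (by
      simp only [andB_eq, Bool.and_eq_true, Bool.not_eq_true', ← Bool.not_eq_true, Nat.beq_eq]
      exact ⟨fun h => hx0 (Fin.ext h), hx⟩)
    rw [List.mem_singleton] at hbs; subst hbs
    rw [← Equiv.Perm.mul_apply, ← map_mul,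
      ← Subgroup.mem_centralizer_singleton_iff.mp (hs hk), map_mul, Equiv.Perm.mul_apply]
    exact congrArg (φ k) hsb
  have hfix : ∀ l ∈ [0, 1, 2, 3, 4, 5, 8, 9], φ (e l) (φ c b) = φ c b := by
    intro l hl
    have hl' : l < 10 ∧ l ∈ hLetters := by
      have : ([0, 1, 2, 3, 4, 5, 8, 9].all fun l => decide (l < 10 ∧ l ∈ hLetters)) = true := by decide
      exact of_decide_eq_true (List.all_eq_true.mp this l hl)
    have hb1 : φ (e l) b = b := by
      apply Fin.ext
      rw [R.letter hl'.1]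
      exact Nat.eq_of_beq_eq_true (List.all_eq_true.mp fixR_ok.2 l hl)
    rw [← Equiv.Perm.mul_apply, ← map_mul, hcm _ (Subgroup.subset_closure ⟨l, hl'.2, rfl⟩), map_mul,
      Equiv.Perm.mul_apply, hb1]
  have hcand := allLt_sound fixR_ok.1 (φ c b) (φ c b).isLt
  rw [ifB_eq, List.all_eq_true.mpr fun l hl => by
    have hl10 : l < 10 := by simp only [List.mem_cons, List.not_mem_nil, or_false] at hl; omega
    rw [Nat.beq_eq, ← R.letter hl10, hfix l hl], cond_true] at hcand
  simp only [Bool.or_eq_true, Nat.beq_eq] at hcand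
  rcases hcand with ((h | h) | h) | h
  · exact Or.inl (key c hc h0 hS (Fin.ext h))
  · right
    have hzz := R.z_sq
    have := key (z * c) (fun k hk => ?_) ?_ (fun x hx => ?_) ?_
    · calc c = z * z * c := by rw [hzz, one_mul]
        _ = z := by rw [mul_assoc, this, mul_one]
    · rw [Subgroup.mem_centralizer_singleton_iff, ← mul_assoc,
        Subgroup.mem_centralizer_singleton_iff.mp (R.H_comm hk), mul_assoc, hcm k hk, mul_assoc]
    · rw [map_mul, Equiv.Perm.mul_apply, h0, R.comm_iff_fix0]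
    · rw [map_mul, Equiv.Perm.mul_apply, hS x hx]
      exact ((R.inS_iff x).mp hx).2
    · rw [map_mul, Equiv.Perm.mul_apply]
      apply Fin.ext
      rw [R.zf, h]
      have h1 : zget 1 = 8006 := Nat.eq_of_beq_eq_true base_ok.2.2.2.2.1
      rw [← h1, (aux_facts hone).2.2.1]
  · exfalso
    have h1 : φ c b = P0 := Fin.ext h
    rw [← h0] at h1
    have := congrArg Fin.val ((φ c).injective h1)
    simp [b, P0] at this
  · exfalso
    have h1 : φ c b = b := (φ c).injective (hS _ h)
    rw [h1] at h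
    exact (inS_SL h).2 rfl

section translate

variable {t : G} {v w : List ℕ}

theorem Rep.act_step (R : Rep φ) (hg : t * gI = gI * t) (hv : ∀ l ∈ v, l < 10)
    (hw : ∀ l ∈ w, l < 10) (hT : t * TT v = TT w * t) {i : ℕ} {a a' : Fin N}
    (ha : φ t a = a') :
    ∃ c c' : Fin N, (∀ k, actT Data.colG v i a k = k c) ∧
      (∀ k, actT Data.colG w i a' k = k c') ∧ φ t c = c' := by
  have hstep : ∀ (u : List ℕ) (hu : ∀ l ∈ u, l < 10) (y : Fin N) (k : ℕ → Bool),
      actT Data.colG u i y k = k (φ (gI ^ i * (TT u)⁻¹ * gI ^ ((13 - i) % 13)) y : Fin N) := by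
    intro u hu y k
    rw [actT, uiter_eq, walk_eq, uiter_eq, ← R.gI_iter, ← R.walk (conjW_lt hu), evalW_conjW,
      ← map_inv, ← R.gI_iter]
    simp only [map_mul, Equiv.Perm.mul_apply]
  refine ⟨_, _, hstep v hv a, hstep w hw a', ?_⟩
  have hc : Commute t gI := hg
  have h2 : t * (TT v)⁻¹ = (TT w)⁻¹ * t := by
    rw [eq_inv_mul_iff_mul_eq, ← mul_assoc, ← hT, mul_inv_cancel_right]
  rw [← Equiv.Perm.mul_apply, ← map_mul, ← ha]
  conv_rhs => rw [← Equiv.Perm.mul_apply, ← map_mul]
  congr 2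
  calc t * (gI ^ i * (TT v)⁻¹ * gI ^ ((13 - i) % 13))
      = gI ^ i * (t * (TT v)⁻¹) * gI ^ ((13 - i) % 13) := by
        rw [← mul_assoc, ← mul_assoc, (hc.pow_right i).eq, mul_assoc (gI ^ i)]
    _ = gI ^ i * (TT w)⁻¹ * (t * gI ^ ((13 - i) % 13)) := by
        rw [h2]; simp only [mul_assoc]
    _ = gI ^ i * (TT w)⁻¹ * gI ^ ((13 - i) % 13) * t := by
        rw [(hc.pow_right _).eq]; simp only [mul_assoc]

theorem Rep.TT_move (R : Rep φ) (hv : ∀ l ∈ v, l < 10) (hw : ∀ l ∈ w, l < 10)
    {q r : Fin N} (hq : (q : ℕ) = ptOf v) (hr : (r : ℕ) = ptOf w) (hqr : φ t q = r) :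
    t * TT v = TT w * t := by
  have h1 : φ (t * gv v) P0 = φ (gv w) P0 := by
    rw [map_mul, Equiv.Perm.mul_apply,
      show φ (gv v) P0 = q from Fin.ext ((R.pt hv).trans hq.symm), hqr]
    exact Fin.ext (hr.trans (R.pt hw).symm)
  have h2 := (R.cj_eq _ _).mp h1
  rw [cj_mul, ← R.TT_cj, ← R.TT_cj] at h2
  exact (mul_inv_eq_iff_eq_mul).mp h2

theorem Rep.move_fix_iff (R : Rep φ) (hT : t * TT v = TT w * t) (y : Fin N) :
    φ (TT w) (φ t y) = φ t y ↔ φ (TT v) y = y := by
  rw [← Equiv.Perm.mul_apply, ← map_mul, ← hT, map_mul, Equiv.Perm.mul_apply,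
    (φ t).apply_eq_iff_eq]

theorem Rep.pat_eq (R : Rep φ) (hg : t * gI = gI * t) (hv : ∀ l ∈ v, l < 10)
    (hw : ∀ l ∈ w, l < 10) {q r : Fin N} (hq : (q : ℕ) = ptOf v) (hr : (r : ℕ) = ptOf w)
    (hqr : φ t q = r) (i : ℕ) : patAt Data.colG w i = patAt Data.colG v i := by
  have hT := R.TT_move hv hw hq hr hqr
  have hmv : φ (gI ^ i) r = φ t (φ (gI ^ i) q) := by
    rw [← hqr, ← Equiv.Perm.mul_apply, ← map_mul, ← ((show Commute t gI from hg).pow_right i).eq,
      map_mul, Equiv.Perm.mul_apply]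
  rw [patAt, patAt, uiter_eq, uiter_eq, ← hr, ← hq, ← R.gI_iter, ← R.gI_iter, Bool.eq_iff_iff,
    R.fixT_iff hw, R.fixT_iff hv, hmv]
  exact R.move_fix_iff hT _

theorem Rep.cl_eq (R : Rep φ) (hg : t * gI = gI * t) (hv : ∀ l ∈ v, l < 10)
    (hw : ∀ l ∈ w, l < 10) {q r : Fin N} (hq : (q : ℕ) = ptOf v) (hr : (r : ℕ) = ptOf w)
    (hqr : φ t q = r) (j k₁ k₂ k : ℕ) :
    clAt Data.colG w j k₁ k₂ k = clAt Data.colG v j k₁ k₂ k := by
  have hT := R.TT_move hv hw hq hr hqr
  rw [clAt, clAt, uiter_eq, uiter_eq, ← hr, ← hq, ← R.gI_iter, ← R.gI_iter]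
  have h0 : φ t (φ (gI ^ j) q) = φ (gI ^ j) r := by
    rw [← hqr, ← Equiv.Perm.mul_apply, ← map_mul, ((show Commute t gI from hg).pow_right j).eq,
      map_mul, Equiv.Perm.mul_apply]
  obtain ⟨b, b', hb, hb', hbb⟩ := R.act_step hg hv hw hT (i := k₁) h0
  rw [hb, hb']
  obtain ⟨c, c', hc, hc', hcc⟩ := R.act_step hg hv hw hT (i := k₂) hbb
  rw [hc, hc']
  obtain ⟨d, d', hd, hd', hdd⟩ := R.act_step hg hv hw hT (i := k) hcc
  rw [hd, hd', Bool.eq_iff_iff, Nat.beq_eq, Nat.beq_eq, ← hdd, ← hcc]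
  exact ⟨fun h => congrArg Fin.val ((φ t).injective (Fin.ext h)),
    fun h => congrArg (fun x => ((φ t x : Fin N) : ℕ)) (Fin.ext h)⟩

end translate

theorem vq_lt' : ∀ l ∈ Data.vq, l < 10 := lt_of_all vq_lt.1

/-- an involution fixing the first point and commuting with the element of order thirteen -/
theorem Rep.eq_z (R : Rep φ) {t : G} (ht1 : t ≠ 1) (ht : t * t = 1) (hg : t * gI = gI * t)
    (h0 : φ t P0 = P0) : t = z := by
  have hz : t * z = z * t := (R.comm_iff_fix0 t).mp h0
  have hqlt : ptOf Data.vq < N := walkV_lt C31671.cert_ok _ vq_lt' _ (by decide +kernel)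
  let q : Fin N := ⟨_, hqlt⟩
  have hqS := (R.inS_iff q).mp vq_lt.2
  have hxS : inS (φ t q : Fin N) = true := by
    refine (R.inS_iff _).mpr ⟨fun h => hqS.1 ((φ t).injective (h.trans h0.symm)), ?_⟩
    rw [← Equiv.Perm.mul_apply, ← map_mul, ← hz, map_mul, Equiv.Perm.mul_apply, hqS.2]
  obtain ⟨bs, hbs, hb, k, hk, hkx⟩ := R.reach (Subgroup.zpowers gI) (gens := [Data.g13])
    (fun g hgm => by rw [List.mem_singleton] at hgm; subst hgm; exact g13_lt)
    (fun g hgm => by
      rw [List.mem_singleton] at hgm; subst hgm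
      have := (Subgroup.zpowers gI).inv_mem (Subgroup.mem_zpowers gI)
      rwa [gI, inv_inv] at this)
    cyc_cover_ok (φ t q) hxS
  obtain ⟨c, hc, rfl⟩ := List.mem_map.mp hbs
  have hkg : Commute k gI := by
    obtain ⟨m, rfl⟩ := hk
    exact (Commute.refl gI).zpow_left m
  have hg' : k⁻¹ * t * gI = gI * (k⁻¹ * t) := ((hkg.inv_left).mul_left hg).eq
  have hqr : φ (k⁻¹ * t) q = (⟨_, hb⟩ : Fin N) := by
    rw [map_mul, Equiv.Perm.mul_apply, map_inv, ← hkx, Equiv.Perm.inv_def, Equiv.symm_apply_apply]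
  have hok := List.all_eq_true.mp cyc_ok c hc
  have hqv : (q : ℕ) = ptOf Data.vq := by simp only [q]
  obtain ⟨r, hrv, hrr⟩ : ∃ r : Fin N, (r : ℕ) = ptOf (c.rep Data.vq) ∧ φ (k⁻¹ * t) q = r :=
    ⟨_, by simp only [], hqr⟩
  clear hqr hkx
  rename' hrr => hqr
  cases c with
  | pattern v st i =>
    exfalso
    simp only [Cyc.ok, Bool.and_eq_true] at hok
    have := R.pat_eq (v := Data.vq) (w := v) hg' vq_lt' (lt_of_all hok.1) hqv hrv hqr i
    rw [this] at hok
    simp at hok
  | closure v st j k₁ k₂ k' =>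
    exfalso
    simp only [Cyc.ok, Bool.and_eq_true] at hok
    have := R.cl_eq (v := Data.vq) (w := v) hg' vq_lt' (lt_of_all hok.1.1.1.1) hqv hrv hqr j k₁ k₂ k'
    rw [this] at hok
    simp at hok
  | same st =>
    simp only [Cyc.rep] at hrv
    obtain rfl : r = q := Fin.ext (hrv.trans hqv.symm)
    have hT := R.TT_move (t := k⁻¹ * t) vq_lt' vq_lt' hqv hqv hqr
    have hfixS : ∀ x : Fin N, inS x = true → φ (k⁻¹ * t) x = x := by
      intro x hx
      obtain ⟨bs', hbs', hb', k', hk', rfl⟩ := R.reach (Subgroup.centralizer {k⁻¹ * t})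
        (gens := [Data.g13, conjW Data.vq])
        (fun g hgm => by
          simp only [List.mem_cons, List.not_mem_nil, or_false] at hgm
          rcases hgm with rfl | rfl
          · exact g13_lt
          · exact conjW_lt vq_lt')
        (fun g hgm => by
          simp only [List.mem_cons, List.not_mem_nil, or_false] at hgm
          rcases hgm with rfl | rfl
          · rw [Subgroup.mem_centralizer_singleton_iff,
              show evalW e Data.g13 = gI⁻¹ by rw [gI, inv_inv]]
            exact (Commute.inv_right (show Commute (k⁻¹ * t) gI from hg')).eq.symm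
          · rw [Subgroup.mem_centralizer_singleton_iff, evalW_conjW]; exact hT.symm)
        stQ_ok x hx
      rw [List.mem_singleton] at hbs'; subst hbs'
      rw [← Equiv.Perm.mul_apply, ← map_mul,
        ← Subgroup.mem_centralizer_singleton_iff.mp hk', map_mul, Equiv.Perm.mul_apply]
      exact congrArg (φ k') hqr
    have hH : H ≤ Subgroup.centralizer {k⁻¹ * t} := by
      refine (Subgroup.closure_le _).mpr ?_
      rintro _ ⟨l, hl, rfl⟩
      have hl10 : l < 10 := (fix_hLetters l hl).1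
      rw [SetLike.mem_coe, Subgroup.mem_centralizer_singleton_iff]
      change e l * _ = _ * e l
      rw [e_eq_TT hl10, R.TT_cj]
      refine (R.comm_of_fix (hfixS _ ?_)).symm
      rw [R.cu_inS hl10, decide_eq_true_eq]
      rintro rfl
      exact absurd hl (by decide)
    have hkt : ∀ c : G, (c = 1 ∨ c = z) → t = k * c → t = z := by
      intro c hc htc
      have hkz : Commute k z := by
        obtain ⟨m, rfl⟩ := hk
        exact (show Commute gI z from R.gI_comm_z).zpow_left m
      have hcc : c * c = 1 := by rcases hc with rfl | rfl <;> simp [R.z_sq]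
      have hck : Commute c k := by rcases hc with rfl | rfl <;> simp [hkz.symm]
      have hkk : k * k = 1 := by
        calc k * k = k * k * (c * c) := by rw [hcc, mul_one]
          _ = k * c * (k * c) := by rw [mul_assoc k c, ← mul_assoc c k, hck.eq]; group
          _ = 1 := by rw [← htc, ht]
      have hd : orderOf k ∣ 13 := by
        rw [← R.gI_order]; exact orderOf_dvd_of_mem_zpowers hk
      have hk1 : k = 1 := by
        have h2 : orderOf k ∣ 2 := orderOf_dvd_of_pow_eq_one (by rw [pow_two, hkk])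
        have h3 : orderOf k ∣ 1 := by
          have := Nat.dvd_gcd hd h2
          simpa using this
        exact orderOf_eq_one_iff.mp (Nat.dvd_one.mp h3)
      rw [hk1, one_mul] at htc
      rcases hc with rfl | rfl
      · exact absurd htc ht1
      · exact htc
    exact hkt _ (R.centralizer_H hH) (by group)

/-- an involution commuting with the element of order thirteen -/
theorem Rep.conj_z (R : Rep φ) {t : G} (ht1 : t ≠ 1) (ht : t * t = 1) (hg : t * gI = gI * t) :
    ∃ g : G, t = cj g := by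
  have hp1 : 1 < N := by rw [N_eq]; norm_num
  have hp2 : 8006 < N := by rw [N_eq]; norm_num
  let P1 : Fin N := ⟨1, hp1⟩
  let P2 : Fin N := ⟨8006, hp2⟩
  have hz7 : φ (e 7) P0 = P1 := Fin.ext (by
    rw [R.letter (by norm_num)]
    exact Nat.eq_of_beq_eq_true base_ok.2.2.2.1)
  have hz2 : φ (z * e 7) P0 = P2 := Fin.ext (by
    rw [map_mul, Equiv.Perm.mul_apply, hz7, R.zf]
    exact Nat.eq_of_beq_eq_true base_ok.2.2.2.2.1)
  have hg7 : Commute (e 7) gI := gI_comm_seven.symm
  have hgz : Commute z gI := R.gI_comm_z.symm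
  have hfixg : ∀ (k : G), Commute k gI → φ gI (φ k P0) = φ k P0 := by
    intro k hk
    rw [← Equiv.Perm.mul_apply, ← map_mul, ← hk.eq, map_mul, Equiv.Perm.mul_apply,
      (R.stab gI).mpr gI_mem_H]
  have hmem : ∀ x : Fin N, φ gI x = x → x = P0 ∨ x = P1 ∨ x = P2 := by
    intro x hx
    have h := (scan_facts x.isLt).2.2.1 (by rw [← R.gI_apply, hx])
    rcases h with h | h | h
    · exact Or.inl (Fin.ext h)
    · exact Or.inr (Or.inl (Fin.ext h))
    · exact Or.inr (Or.inr (Fin.ext h))
  have htg : ∀ x : Fin N, φ gI x = x → φ gI (φ t x) = φ t x := by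
    intro x hx
    rw [← Equiv.Perm.mul_apply, ← map_mul, ← hg, map_mul, Equiv.Perm.mul_apply, hx]
  have htt : ∀ x, φ t (φ t x) = x := fun x => by
    rw [← Equiv.Perm.mul_apply, ← map_mul, ht, map_one]; rfl
  obtain ⟨k, hk, hfix⟩ : ∃ k : G, Commute k gI ∧ φ t (φ k P0) = φ k P0 := by
    by_contra hno
    push_neg at hno
    have a0 := hno 1 (Commute.one_left _)
    have a1 := hno (e 7) hg7
    have a2 := hno (z * e 7) (hgz.mul_left hg7)
    rw [map_one, Equiv.Perm.one_apply] at a0
    rw [hz7] at a1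
    rw [hz2] at a2
    have f0 : φ gI P0 = P0 := (R.stab gI).mpr gI_mem_H
    have f1 : φ gI P1 = P1 := hz7 ▸ hfixg _ hg7
    have f2 : φ gI P2 = P2 := hz2 ▸ hfixg _ (hgz.mul_left hg7)
    have b0 := htt P0; have b1 := htt P1; have b2 := htt P2
    have d01 : P0 ≠ P1 := fun h => by simpa [P0, P1] using congrArg Fin.val h
    have d02 : P0 ≠ P2 := fun h => by simpa [P0, P2] using congrArg Fin.val h
    have d12 : P1 ≠ P2 := fun h => by simpa [P1, P2] using congrArg Fin.val h
    rcases hmem _ (htg P0 f0) with c0 | c0 | c0 <;>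
      rcases hmem _ (htg P1 f1) with c1 | c1 | c1 <;>
      rcases hmem _ (htg P2 f2) with c2 | c2 | c2 <;>
      simp_all
  refine ⟨k, ?_⟩
  have h1 : k⁻¹ * t * k = z := by
    refine R.eq_z ?_ ?_ ?_ ?_
    · intro h
      apply ht1
      calc t = k * (k⁻¹ * t * k) * k⁻¹ := by group
        _ = 1 := by rw [h]; group
    · calc k⁻¹ * t * k * (k⁻¹ * t * k) = k⁻¹ * (t * t) * k := by group
        _ = 1 := by rw [ht]; group
    · exact ((hk.inv_left.mul_left hg).mul_left hk).eq
    · rw [map_mul, map_mul, Equiv.Perm.mul_apply, Equiv.Perm.mul_apply, hfix, map_inv,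
        Equiv.Perm.inv_def, Equiv.symm_apply_apply]
  rw [cj, ← h1]; group

end Cfsg.Agent.H46.Fi23Out
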