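import Cfsg.Agent.H46.Fi23Out.Check
import Cfsg.Agent.H25.Fi23.C31671
import Cfsg.Agent.H25.Fi23.C31671AuxData

/-!
Certificate types for automorphisms of the Fischer group on 31671 points.
-/

set_option autoImplicit false
set_option maxRecDepth 100000

namespace Cfsg.Agent.H46.Fi23Out

open Cfsg.Agent.H25.Fi23
open Cfsg.Agent.H45 (force force_eq)

/-- the table -/
abbrev t31 : Tr := C31671.cert.t

/-- the point of the first generator -/
def base : ℕ := 11589

/-- the point of a conjugate of the first generator -/
noncomputable def ptOf (v : List ℕ) : ℕ := walkV t31 v base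

/-- the central involution of the stabiliser, as a column -/
noncomputable def zget (x : ℕ) : ℕ := uget C31671.colZ x

/-- a point other than zero fixed by the central involution of the stabiliser -/
noncomputable def inS (x : ℕ) : Bool := andB (!Nat.beq x 0) (Nat.beq (zget x) x)

/-- the conjugate given by a word fixes a point -/
noncomputable def fixT (v : List ℕ) (x : ℕ) : Bool := walk t31 (conjW v) x fun y => Nat.beq y x

/-- the image of a point under the conjugate given by a translated word -/
noncomputable def actT (G : Tr) (v : List ℕ) (i a : ℕ) (k : ℕ → Bool) : Bool :=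
  uiter G ((13 - i) % 13) a fun b => walk t31 (conjW v) b fun c => uiter G i c k

/-- a search tree -/
inductive RTree where
  | leaf
  | node (k : ℕ) (gens : List (List ℕ)) (kids : RTree)
  | kid (u steps : List ℕ) (sub next : RTree)
  | nil

/-- the children of a node -/
noncomputable def RTree.kids : RTree → List (ℕ × List ℕ)
  | .kid u st _ next => (ptOf u, st) :: RTree.kids next
  | _ => []

/-- a tree which is not a list of children -/
def RTree.main : RTree → Bool
  | .leaf => true
  | .node _ _ _ => true
  | _ => false

/-- a possible image of letter `k` -/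
noncomputable def cand (cu : List (List ℕ)) (d : List (ℕ × List ℕ)) (k x : ℕ) : Bool :=
  andB (ifB (Nat.beq k 7) (andB (!inS x) (!Nat.beq x 0)) (inS x))
    (d.all fun ju => (fixT ju.2 x == fixT (cu.getD ju.1 []) (ptOf (cu.getD k []))) &&
      !Nat.beq x (ptOf ju.2))

/-- a possible image of the last letter: one table entry for each fixed letter -/
noncomputable def cand7 (cu : List (List ℕ)) (d : List (ℕ × List ℕ)) (k x : ℕ) : Bool :=
  andB (andB (!inS x) (!Nat.beq x 0))
    (d.all fun ju => ifB (Nat.blt ju.1 10 && (ju.2 == cu.getD ju.1 []))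
        (Nat.beq (tgt t31 x ju.1) x) (fixT ju.2 x) ==
      fixT (cu.getD ju.1 []) (ptOf (cu.getD k [])))

/-- the cover of the candidates at a node -/
noncomputable def nodeCov (cu : List (List ℕ)) (SL : List ℕ) (k : ℕ) (gens : List (List ℕ))
    (kids : RTree) (d : List (ℕ × List ℕ)) : Bool :=
  ifB (Nat.beq k 7)
    (covers C31671.cert gens kids.kids (cand7 cu d k))
    (coversL C31671.cert SL gens kids.kids (cand cu d k))

/-- the check of a tree -/
noncomputable def chk (cu : List (List ℕ)) (SL : List ℕ) : RTree → List (ℕ × List ℕ) → ℕ → Bool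
  | .leaf, d, _ => (List.range 10).all fun l =>
      d.any fun ju => Nat.beq ju.1 l && Nat.beq (ptOf ju.2) (ptOf (cu.getD l []))
  | .node k gens kids, d, _ =>
    Nat.blt k 10 && (d.all fun ju => !Nat.beq ju.1 k) &&
      (gens.all fun g => (g.all fun l => Nat.blt l 10) && Nat.beq (walkV t31 g 0) 0 &&
        d.all fun ju => Nat.beq (walkV t31 g (ptOf ju.2)) (ptOf ju.2)) &&
      nodeCov cu SL k gens kids d &&
      chk cu SL kids d k
  | .kid u _ sub next, d, k =>
    sub.main && (u.all fun l => Nat.blt l 10) && chk cu SL sub ((k, u) :: d) 0 &&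
      chk cu SL next d k
  | .nil, _, _ => true

/-- a certificate for one cycle of the element of order thirteen -/
inductive Cyc where
  | same (steps : List ℕ)
  | pattern (v steps : List ℕ) (i : ℕ)
  | closure (v steps : List ℕ) (j k₁ k₂ k : ℕ)

/-- the representative of a cycle -/
def Cyc.rep (vq : List ℕ) : Cyc → List ℕ
  | .same _ => vq
  | .pattern v _ _ => v
  | .closure v _ _ _ _ _ => v

/-- the steps of a cycle -/
def Cyc.st : Cyc → List ℕ
  | .same s => s
  | .pattern _ s _ => s
  | .closure _ s _ _ _ _ => s

/-- fixing by the first conjugate of a translate of the representative -/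
noncomputable def patAt (G : Tr) (v : List ℕ) (i : ℕ) : Bool :=
  uiter G i (ptOf v) fun p => fixT v p

/-- a second order relation among the translates -/
noncomputable def clAt (G : Tr) (v : List ℕ) (j k₁ k₂ k : ℕ) : Bool :=
  uiter G j (ptOf v) fun a => actT G v k₁ a fun b => actT G v k₂ b fun c =>
    actT G v k c fun d => Nat.beq d c

/-- the check of one cycle certificate -/
noncomputable def Cyc.ok (G : Tr) (vq : List ℕ) : Cyc → Bool
  | .same _ => true
  | .pattern v _ i => (v.all fun l => Nat.blt l 10) && !(patAt G v i == patAt G vq i)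
  | .closure v _ j k₁ k₂ k => (v.all fun l => Nat.blt l 10) &&
      Nat.blt k₁ 13 && Nat.blt k₂ 13 && Nat.blt k 13 &&
      !(clAt G v j k₁ k₂ k == clAt G vq j k₁ k₂ k)

end Cfsg.Agent.H46.Fi23Out
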