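import Cfsg.Agent.H46.Fi23Out.Class
import Cfsg.Agent.H46.Fi23Out.CertC
import Cfsg.Prelude.Def_KGroupFacts

/-!
Every automorphism of `Fi₂₃` is inner.
-/

set_option autoImplicit false
set_option maxRecDepth 100000

open scoped Pointwise

namespace Cfsg.Agent.H46.Fi23Out

open Cfsg.Agent.H25.Fi23
open Cfsg.Agent.H45 (evalW evalW_cons evalW_nil evalW_append force force_eq bget bget_eq)

variable {φ : G →* Equiv.Perm (Fin N)}

theorem finite_G : Finite G := order_facts.1

theorem card_G : Nat.card G = 4089470473293004800 := order_facts.2.1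

theorem fact13 : (4089470473293004800 : ℕ).factorization 13 = 1 := by
  rw [show (4089470473293004800 : ℕ) = 13 * 314574651791769600 by norm_num,
    Nat.factorization_mul (by norm_num) (by norm_num), Finsupp.add_apply,
    Nat.Prime.factorization_self (by norm_num),
    Nat.factorization_eq_zero_of_not_dvd (by norm_num)]

theorem Rep.auto_class (R : Rep φ) (α : MulAut G) : ∃ g : G, α z = cj g := by
  have := finite_G
  have : Fact (Nat.Prime 13) := ⟨by norm_num⟩
  have ho := R.gI_order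
  have ho' : orderOf (α gI) = 13 := by rw [← ho]; exact MulEquiv.orderOf_eq α gI
  have hcard : ∀ x : G, orderOf x = 13 →
      Nat.card (Subgroup.zpowers x) = 13 ^ (Nat.card G).factorization 13 := by
    intro x hx; rw [Nat.card_zpowers, hx, card_G, fact13, pow_one]
  let P₁ : Sylow 13 G := Sylow.ofCard _ (hcard _ ho')
  let P₂ : Sylow 13 G := Sylow.ofCard _ (hcard _ ho)
  obtain ⟨x, hx⟩ := MulAction.exists_smul_eq G P₁ P₂
  have hx' : (MulAut.conj x • Subgroup.zpowers (α gI) : Subgroup G) = Subgroup.zpowers gI :=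
    congrArg (fun P : Sylow 13 G => (P : Subgroup G)) hx
  have hmem : gI ∈ Subgroup.zpowers gI := Subgroup.mem_zpowers gI
  rw [← hx', Subgroup.mem_smul_pointwise_iff_exists] at hmem
  obtain ⟨y, hy, hyx⟩ := hmem
  obtain ⟨k, rfl⟩ := hy
  have hcomm : Commute (α gI) (α z) := Commute.map R.gI_comm_z α
  obtain ⟨g, hg⟩ := R.conj_z (t := MulAut.conj x (α z)) (by
      rw [← map_one (MulAut.conj x), (MulAut.conj x).injective.ne_iff, ← map_one α,
        α.injective.ne_iff]
      exact R.z_ne_one)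
    (by rw [← map_mul, ← map_mul, R.z_sq, map_one, map_one]) (by
      rw [← hyx]
      exact (((hcomm.zpow_left k).map (MulAut.conj x)).symm).eq)
  refine ⟨x⁻¹ * g, ?_⟩
  rw [cj_mul, ← hg, MulAut.conj_apply]
  group

/-- the automorphism takes the given values on the letters of a partial tuple -/
def Agree (α : MulAut G) (d : List (ℕ × List ℕ)) : Prop :=
  α z = z ∧ ∀ ju ∈ d, ju.1 < 10 ∧ (∀ l ∈ ju.2, l < 10) ∧ α (e ju.1) = TT ju.2

theorem cu_pt_inj {i j : ℕ} (hi : i < 10) (hj : j < 10)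
    (h : ptOf (Data.cu.getD i []) = ptOf (Data.cu.getD j [])) : i = j :=
  List.inj_on_of_nodup_map cu_distinct (List.mem_range.mpr hi) (List.mem_range.mpr hj) h

theorem Rep.z_region (R : Rep φ) {α : MulAut G} (hz : α z = z) {k : ℕ} (hk : k < 10) {g : G}
    (hg : α (e k) = cj g) :
    φ g P0 ≠ P0 ∧ inS (φ g P0 : Fin N) = decide (k ≠ 7) := by
  set u := gv (Data.cu.getD k []) with hu
  have hek : e k = cj u := by rw [e_eq_TT hk, R.TT_cj]
  have h0 : φ (1 : G) P0 = P0 := by rw [map_one, Equiv.Perm.one_apply]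
  have hne : ∀ g' : G, φ g' P0 = P0 → cj g' = z := by
    intro g' h
    rw [← cj_one]
    exact (R.cj_eq _ _).mp (h.trans h0.symm)
  have hfix : ∀ g' : G, φ z (φ g' P0) = φ g' P0 ↔ z * cj g' = cj g' * z := by
    intro g'
    have := R.fix_iff_comm 1 g'
    rwa [cj_one] at this
  have hu0 : φ u P0 ≠ P0 := by
    intro h
    have h1 := hne u h
    rw [← hek] at h1
    have h7 := congrArg (fun x => ((φ x P0 : Fin N) : ℕ)) h1
    simp only [R.letter hk, R.zf, (R.stab z).mpr z_mem_H] at h7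
    by_cases hk7 : k = 7
    · subst hk7
      have h8 : Nat.beq (tgt t31 0 7) 0 = false := cu_S.2.2
      rw [show Nat.beq (tgt t31 0 7) 0 = true by rw [Nat.beq_eq]; exact h7] at h8
      exact absurd h8 (by simp)
    · have := R.cu_inS hk
      rw [decide_eq_true hk7, R.inS_iff] at this
      exact this.1 h
  have hne' : φ g P0 ≠ P0 := by
    intro h
    apply hu0
    have h1 : α (e k) = α z := by rw [hg, hne g h, hz]
    rw [hek] at h1
    exact ((R.cj_eq u 1).mpr ((α.injective h1).trans cj_one.symm)).trans h0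
  refine ⟨hne', ?_⟩
  rw [← R.cu_inS hk, Bool.eq_iff_iff, R.inS_iff, R.inS_iff, hfix, hfix, ← hu, ← hek, ← hg]
  constructor
  · rintro ⟨-, h⟩
    refine ⟨hu0, α.injective ?_⟩
    rw [map_mul, map_mul, hz]; exact h
  · rintro ⟨-, h⟩
    refine ⟨hne', ?_⟩
    have := congrArg α h
    rwa [map_mul, map_mul, hz] at this

theorem Rep.adj_sound (R : Rep φ) {α : MulAut G} {d : List (ℕ × List ℕ)} (hd : Agree α d)
    {k : ℕ} (hk : k < 10) {g : G} (hg : α (e k) = cj g) {ju : ℕ × List ℕ} (hju : ju ∈ d) :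
    (φ (TT ju.2) (φ g P0) = φ g P0) ↔
      Fi23Out.fixT (Data.cu.getD ju.1 []) (ptOf (Data.cu.getD k [])) = true := by
  obtain ⟨hj, hul, hju'⟩ := hd.2 ju hju
  rw [← R.pt (cu_lt' k), R.fixT_iff (cu_lt' ju.1), R.TT_cj ju.2, R.fix_iff_comm,
    ← R.TT_cj ju.2, R.TT_cj (Data.cu.getD ju.1 []), R.fix_iff_comm,
    ← R.TT_cj (Data.cu.getD ju.1 []), ← e_eq_TT hj, ← R.TT_cj (Data.cu.getD k []), ← e_eq_TT hk,
    ← hju', ← hg, ← map_mul, ← map_mul, α.injective.eq_iff]

theorem Rep.cand_sound (R : Rep φ) {α : MulAut G} {d : List (ℕ × List ℕ)} (hd : Agree α d)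
    {k : ℕ} (hk : k < 10) (hkd : ∀ ju ∈ d, ju.1 ≠ k) {g : G} (hg : α (e k) = cj g) :
    cand Data.cu d k (φ g P0 : Fin N) = true := by
  obtain ⟨hne, hreg⟩ := R.z_region hd.1 hk hg
  simp only [cand, andB_eq, ifB_eq, Bool.and_eq_true, List.all_eq_true]
  refine ⟨?_, fun ju hju => ⟨?_, ?_⟩⟩
  · by_cases h7 : k = 7
    · subst h7
      rw [show Nat.beq 7 7 = true from rfl, cond_true, hreg]
      simp only [ne_eq, not_true_eq_false, decide_false, Bool.not_false, Bool.true_and,
        Bool.not_eq_true', ← Bool.not_eq_true, Nat.beq_eq]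
      exact fun h => hne (Fin.ext h)
    · rw [show Nat.beq k 7 = false by rw [← Bool.not_eq_true, Nat.beq_eq]; exact h7, cond_false, hreg,
        decide_eq_true h7]
  · obtain ⟨hj, hul, hju'⟩ := hd.2 ju hju
    rw [beq_iff_eq, Bool.eq_iff_iff, R.fixT_iff hul]
    exact R.adj_sound hd hk hg hju
  · obtain ⟨hj, hul, hju'⟩ := hd.2 ju hju
    simp only [Bool.not_eq_true', ← Bool.not_eq_true, Nat.beq_eq]
    intro h
    rw [← R.pt hul] at h
    have h1 : α (e k) = α (e ju.1) := by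
      rw [hg, hju', R.TT_cj]; exact (R.cj_eq _ _).mp (Fin.ext h)
    have h2 := α.injective h1
    rw [e_eq_TT hk, e_eq_TT hj, R.TT_cj, R.TT_cj] at h2
    have h3 := congrArg Fin.val ((R.cj_eq _ _).mpr h2)
    rw [R.pt (cu_lt' k), R.pt (cu_lt' ju.1)] at h3
    exact hkd ju hju (cu_pt_inj hk hj h3).symm

theorem Rep.cand7_sound (R : Rep φ) {α : MulAut G} {d : List (ℕ × List ℕ)} (hd : Agree α d)
    {g : G} (hg : α (e 7) = cj g) : cand7 Data.cu d 7 (φ g P0 : Fin N) = true := by
  obtain ⟨hne, hreg⟩ := R.z_region hd.1 (by norm_num) hg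
  simp only [cand7, andB_eq, Bool.and_eq_true, List.all_eq_true, hreg]
  refine ⟨⟨by simp, ?_⟩, fun ju hju => ?_⟩
  · simp only [Bool.not_eq_true', ← Bool.not_eq_true, Nat.beq_eq]
    exact fun h => hne (Fin.ext h)
  obtain ⟨hj, hul, hju'⟩ := hd.2 ju hju
  have key := R.adj_sound hd (by norm_num : 7 < 10) hg hju
  rw [beq_iff_eq, Bool.eq_iff_iff, ← key, ifB_eq]
  cases hb : (Nat.blt ju.1 10 && (ju.2 == Data.cu.getD ju.1 []))
  · rw [cond_false]; exact R.fixT_iff hul _
  · rw [cond_true, Nat.beq_eq, ← R.letter hj]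
    simp only [Bool.and_eq_true, beq_iff_eq] at hb
    rw [hb.2, ← e_eq_TT hj]
    exact ⟨fun h => Fin.ext h, fun h => congrArg Fin.val h⟩

theorem mem_maskL : ∀ {L : List ℕ} {x : ℕ}, bget (maskL L) x = true → x ∈ L := by
  intro L
  induction L with
  | nil => intro x h; simp [maskL, bget_eq] at h
  | cons a L ih =>
    intro x h
    rw [show maskL (a :: L) = maskL L ||| (1 <<< a) from rfl, bget_eq, Nat.testBit_or,
      Bool.or_eq_true, Nat.one_shiftLeft, Nat.testBit_two_pow, decide_eq_true_eq] at h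
    rcases h with h | rfl
    · exact List.mem_cons_of_mem _ (ih (by rw [bget_eq]; exact h))
    · exact List.mem_cons_self

/-- an automorphism is inner times one fixing all letters -/
def Concl (α : MulAut G) : Prop :=
  ∃ x : G, ∀ l, l < 10 → (MulAut.conj x * α) (e l) = e l

theorem Rep.tree_sound (R : Rep φ) : ∀ (T : RTree) (d : List (ℕ × List ℕ)) (k : ℕ),
    chk Data.cu Data.SL T d k = true →
      (T.main = true → ∀ α, Agree α d → Concl α) ∧
      (∀ bs ∈ T.kids, ∃ u, (∀ l ∈ u, l < 10) ∧ ptOf u = bs.1 ∧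
        ∀ α, Agree α ((k, u) :: d) → Concl α) := by
  intro T
  induction T with
  | nil => intro d k _; exact ⟨fun h => by simp [RTree.main] at h, by simp [RTree.kids]⟩
  | leaf =>
    intro d k h
    refine ⟨fun _ α hα => ⟨1, fun l hl => ?_⟩, by simp [RTree.kids]⟩
    rw [map_one, one_mul]
    simp only [chk, List.all_eq_true, List.any_eq_true, Bool.and_eq_true, Nat.beq_eq] at h
    obtain ⟨ju, hju, hjl, hpt⟩ := h l (List.mem_range.mpr hl)
    obtain ⟨-, hul, hju'⟩ := hα.2 ju hju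
    rw [hjl] at hju'
    rw [hju', e_eq_TT hl, R.TT_cj, R.TT_cj, ← R.cj_eq]
    exact Fin.ext (by rw [R.pt hul, R.pt (cu_lt' l), hpt])
  | kid u st sub next ihs ihn =>
    intro d k h
    simp only [chk, Bool.and_eq_true] at h
    obtain ⟨⟨⟨hmain, hu⟩, hsub⟩, hnext⟩ := h
    refine ⟨fun hm => by simp [RTree.main] at hm, fun bs hbs => ?_⟩
    simp only [RTree.kids, List.mem_cons] at hbs
    rcases hbs with rfl | hbs
    · exact ⟨u, lt_of_all hu, rfl, (ihs _ 0 hsub).1 hmain⟩
    · exact (ihn d k hnext).2 bs hbs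
  | node k gens kids ih =>
    intro d k' h
    refine ⟨fun _ α hα => ?_, by simp [RTree.kids]⟩
    simp only [chk, Bool.and_eq_true] at h
    obtain ⟨⟨⟨⟨hk, hkd⟩, hgens⟩, hcov⟩, hkids⟩ := h
    rw [Nat.blt_eq] at hk
    have hkd' : ∀ ju ∈ d, ju.1 ≠ k := by
      intro ju hju
      have := List.all_eq_true.mp hkd ju hju
      simpa only [Bool.not_eq_true', ← Bool.not_eq_true, Nat.beq_eq] using this
    have hgl : ∀ g ∈ gens, ∀ l ∈ g, l < 10 := fun g hg => by
      have := List.all_eq_true.mp hgens g hg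
      simp only [Bool.and_eq_true] at this
      exact lt_of_all this.1.1
    let K : Subgroup G :=
      { carrier := {h | φ h P0 = P0 ∧ ∀ ju ∈ d, φ h (φ (gv ju.2) P0) = φ (gv ju.2) P0}
        mul_mem' := fun {a b} ha hb => ⟨by rw [map_mul, Equiv.Perm.mul_apply, hb.1, ha.1],
          fun ju hju => by rw [map_mul, Equiv.Perm.mul_apply, hb.2 ju hju, ha.2 ju hju]⟩
        one_mem' := ⟨by simp, fun ju _ => by simp⟩
        inv_mem' := fun {a} ha => ⟨R.fix_inv ha.1, fun ju hju => R.fix_inv (ha.2 ju hju)⟩ }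
    have hgK : ∀ g ∈ gens, evalW e g ∈ K := by
      intro g hg
      have := List.all_eq_true.mp hgens g hg
      simp only [Bool.and_eq_true] at this
      refine ⟨R.fix_of_walk (hgl g hg) (Nat.eq_of_beq_eq_true this.1.2), fun ju hju => ?_⟩
      have h1 := List.all_eq_true.mp this.2 ju hju
      rw [Nat.beq_eq] at h1
      refine R.fix_of_walk (hgl g hg) ?_
      rw [R.pt (hα.2 ju hju).2.1]
      exact h1
    obtain ⟨g, hg⟩ : ∃ g, α (e k) = cj g := by
      refine ⟨α (gv (Data.cu.getD k [])), ?_⟩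
      rw [e_eq_TT hk, R.TT_cj, cj, map_mul, map_mul, map_inv, hα.1, cj]
    obtain ⟨bs, hbs, hb, h0, hh0, hx⟩ :
        ∃ bs ∈ kids.kids, ∃ hb : bs.1 < N, ∃ h0 ∈ K, φ h0 ⟨bs.1, hb⟩ = φ g P0 := by
      simp only [nodeCov, ifB_eq] at hcov
      by_cases h7 : k = 7
      · subst h7
        rw [show Nat.beq 7 7 = true from rfl, cond_true] at hcov
        exact R.reach K hgl hgK hcov (φ g P0) (R.cand7_sound hα hg)
      · rw [show Nat.beq k 7 = false by rw [← Bool.not_eq_true, Nat.beq_eq]; exact h7, cond_false]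
          at hcov
        have hS : inS (φ g P0 : Fin N) = true := by
          rw [(R.z_region hα.1 hk hg).2, decide_eq_true h7]
        have hL := allLt_sound SL_ok (φ g P0) (φ g P0).isLt
        rw [ifB_eq, hS, cond_true] at hL
        exact R.reachL K hgl hgK hcov (φ g P0) (R.cand_sound hα hk hkd' hg) (mem_maskL hL)
    obtain ⟨u, hu, hub, hcont⟩ := (ih d k hkids).2 bs hbs
    have hzc : h0⁻¹ * z * (h0⁻¹)⁻¹ = z := by
      rw [(R.comm_iff_fix0 h0⁻¹).mp (R.fix_inv hh0.1), mul_inv_cancel_right]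
    have hag : Agree (MulAut.conj h0⁻¹ * α) ((k, u) :: d) := by
      refine ⟨by rw [MulAut.mul_apply, hα.1, MulAut.conj_apply, hzc], ?_⟩
      intro ju hju
      rcases List.mem_cons.mp hju with rfl | hju
      · refine ⟨hk, hu, ?_⟩
        rw [MulAut.mul_apply, hg, MulAut.conj_apply, ← cj_mul, R.TT_cj, ← R.cj_eq, map_mul,
          Equiv.Perm.mul_apply, ← hx, map_inv, Equiv.Perm.inv_def, Equiv.symm_apply_apply]
        exact Fin.ext (by rw [R.pt hu]; exact hub.symm)
      · obtain ⟨h1, h2, h3⟩ := hα.2 ju hju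
        refine ⟨h1, h2, ?_⟩
        rw [MulAut.mul_apply, h3, MulAut.conj_apply, R.TT_cj, ← cj_mul, ← R.cj_eq, map_mul,
          Equiv.Perm.mul_apply]
        exact R.fix_inv (hh0.2 ju hju)
    obtain ⟨x, hx'⟩ := hcont _ hag
    refine ⟨x * h0⁻¹, fun l hl => ?_⟩
    rw [map_mul, mul_assoc]
    exact hx' l hl

theorem Rep.inner (R : Rep φ) (α : MulAut G) : α ∈ Cfsg.Inn G := by
  obtain ⟨g, hg⟩ := R.auto_class α
  have hA : Agree (MulAut.conj g⁻¹ * α) [] := by
    refine ⟨?_, fun ju hju => by simp at hju⟩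
    rw [MulAut.mul_apply, hg, MulAut.conj_apply, cj]; group
  obtain ⟨x, hx⟩ := (R.tree_sound Data.tree [] 0 tree_ok).1 (by decide +kernel) _ hA
  have h1 : MulAut.conj x * (MulAut.conj g⁻¹ * α) = 1 := by
    apply MulEquiv.toMonoidHom_injective
    refine MonoidHom.eq_of_eqOn_dense gen_top ?_
    rintro _ ⟨l, hl, rfl⟩
    exact hx l hl
  refine ⟨(x * g⁻¹)⁻¹, ?_⟩
  rw [← mul_assoc, ← map_mul] at h1
  rw [map_inv]
  exact (eq_inv_of_mul_eq_one_right h1).symm

theorem out_card : Nat.card (Cfsg.Out G) = 1 := by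
  obtain ⟨φ, R⟩ := exists_rep
  have : Subsingleton (Cfsg.Out G) := ⟨fun a b => by
    obtain ⟨α, rfl⟩ := QuotientGroup.mk_surjective a
    obtain ⟨β, rfl⟩ := QuotientGroup.mk_surjective b
    exact QuotientGroup.eq.mpr (R.inner _)⟩
  exact Nat.card_unique

end Cfsg.Agent.H46.Fi23Out
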