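import Cfsg.Agent.H46.Fi23Out.Data

/-!
Kernel checks for automorphisms of the Fischer group on 31671 points.
-/

set_option autoImplicit false
set_option Elab.async false
set_option maxRecDepth 100000

namespace Cfsg.Agent.H46.Fi23Out

open Cfsg.Agent.H25.Fi23
open Cfsg.Agent.H45 (force force_eq bget)

/-- the scan of one point -/
noncomputable def scanOK (x : ℕ) : Bool :=
  andB (walk t31 Data.g13 x fun y => Nat.beq (uget Data.colG x) y)
    (andB (uiter Data.colG 13 x fun y => Nat.beq y x)
    (andB (ifB (Nat.beq (uget Data.colG x) x) (Nat.beq x 0 || Nat.beq x 1 || Nat.beq x 8006) true)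
    (walk t31 Data.u0.reverse x fun a => force (zget a) fun b => walk t31 Data.u0 b fun c =>
      Nat.beq (tgt t31 x 0) c)))

end Cfsg.Agent.H46.Fi23Out
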