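import Cfsg.Agent.H46.Fi23Out.Scan

/-!
Kernel checks for automorphisms of the Fischer group on 31671 points.
-/

set_option autoImplicit false
set_option Elab.async false
set_option maxRecDepth 100000

namespace Cfsg.Agent.H46.Fi23Out

open Cfsg.Agent.H25.Fi23
open Cfsg.Agent.H45 (force force_eq bget)

theorem scan0 : allIv scanOK 0 1000 = true := by decide +kernel

theorem scan1000 : allIv scanOK 1000 1000 = true := by decide +kernel

theorem scan2000 : allIv scanOK 2000 1000 = true := by decide +kernel

theorem scan3000 : allIv scanOK 3000 1000 = true := by decide +kernel

theorem scan4000 : allIv scanOK 4000 1000 = true := by decide +kernel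

theorem scan5000 : allIv scanOK 5000 1000 = true := by decide +kernel

theorem scan6000 : allIv scanOK 6000 1000 = true := by decide +kernel

theorem scan7000 : allIv scanOK 7000 1000 = true := by decide +kernel

end Cfsg.Agent.H46.Fi23Out
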