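import Cfsg.Agent.H46.Fi23Out.Scan

/-!
Kernel checks for automorphisms of the Fischer group on 31671 points.
-/

set_option autoImplicit false
set_option Elab.async false
set_option maxRecDepth 100000

namespace Cfsg.Agent.H46.Fi23Out

open Cfsg.Agent.H25.Fi23
open Cfsg.Agent.H45 (force force_eq bget)

theorem scan16000 : allIv scanOK 16000 1000 = true := by decide +kernel

theorem scan17000 : allIv scanOK 17000 1000 = true := by decide +kernel

theorem scan18000 : allIv scanOK 18000 1000 = true := by decide +kernel

theorem scan19000 : allIv scanOK 19000 1000 = true := by decide +kernel

theorem scan20000 : allIv scanOK 20000 1000 = true := by decide +kernel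

theorem scan21000 : allIv scanOK 21000 1000 = true := by decide +kernel

theorem scan22000 : allIv scanOK 22000 1000 = true := by decide +kernel

theorem scan23000 : allIv scanOK 23000 1000 = true := by decide +kernel

end Cfsg.Agent.H46.Fi23Out
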