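import Cfsg.Agent.H46.Fi23Out.Scan0
import Cfsg.Agent.H46.Fi23Out.Scan1
import Cfsg.Agent.H46.Fi23Out.Scan2
import Cfsg.Agent.H46.Fi23Out.Scan3

/-!
Kernel checks for automorphisms of the Fischer group on 31671 points.
-/

set_option autoImplicit false
set_option Elab.async false
set_option maxRecDepth 100000

namespace Cfsg.Agent.H46.Fi23Out

open Cfsg.Agent.H25.Fi23
open Cfsg.Agent.H45 (force force_eq bget)

theorem scan_all : ∀ i, i < 31671 → scanOK i = true := by
  intro i hi
  by_cases c0 : i < 1000
  · exact allIv_sound scan0 i (by omega) (by omega)
  by_cases c1000 : i < 2000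
  · exact allIv_sound scan1000 i (by omega) (by omega)
  by_cases c2000 : i < 3000
  · exact allIv_sound scan2000 i (by omega) (by omega)
  by_cases c3000 : i < 4000
  · exact allIv_sound scan3000 i (by omega) (by omega)
  by_cases c4000 : i < 5000
  · exact allIv_sound scan4000 i (by omega) (by omega)
  by_cases c5000 : i < 6000
  · exact allIv_sound scan5000 i (by omega) (by omega)
  by_cases c6000 : i < 7000
  · exact allIv_sound scan6000 i (by omega) (by omega)
  by_cases c7000 : i < 8000
  · exact allIv_sound scan7000 i (by omega) (by omega)
  by_cases c8000 : i < 9000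
  · exact allIv_sound scan8000 i (by omega) (by omega)
  by_cases c9000 : i < 10000
  · exact allIv_sound scan9000 i (by omega) (by omega)
  by_cases c10000 : i < 11000
  · exact allIv_sound scan10000 i (by omega) (by omega)
  by_cases c11000 : i < 12000
  · exact allIv_sound scan11000 i (by omega) (by omega)
  by_cases c12000 : i < 13000
  · exact allIv_sound scan12000 i (by omega) (by omega)
  by_cases c13000 : i < 14000
  · exact allIv_sound scan13000 i (by omega) (by omega)
  by_cases c14000 : i < 15000
  · exact allIv_sound scan14000 i (by omega) (by omega)
  by_cases c15000 : i < 16000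
  · exact allIv_sound scan15000 i (by omega) (by omega)
  by_cases c16000 : i < 17000
  · exact allIv_sound scan16000 i (by omega) (by omega)
  by_cases c17000 : i < 18000
  · exact allIv_sound scan17000 i (by omega) (by omega)
  by_cases c18000 : i < 19000
  · exact allIv_sound scan18000 i (by omega) (by omega)
  by_cases c19000 : i < 20000
  · exact allIv_sound scan19000 i (by omega) (by omega)
  by_cases c20000 : i < 21000
  · exact allIv_sound scan20000 i (by omega) (by omega)
  by_cases c21000 : i < 22000
  · exact allIv_sound scan21000 i (by omega) (by omega)
  by_cases c22000 : i < 23000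
  · exact allIv_sound scan22000 i (by omega) (by omega)
  by_cases c23000 : i < 24000
  · exact allIv_sound scan23000 i (by omega) (by omega)
  by_cases c24000 : i < 25000
  · exact allIv_sound scan24000 i (by omega) (by omega)
  by_cases c25000 : i < 26000
  · exact allIv_sound scan25000 i (by omega) (by omega)
  by_cases c26000 : i < 27000
  · exact allIv_sound scan26000 i (by omega) (by omega)
  by_cases c27000 : i < 28000
  · exact allIv_sound scan27000 i (by omega) (by omega)
  by_cases c28000 : i < 29000
  · exact allIv_sound scan28000 i (by omega) (by omega)
  by_cases c29000 : i < 30000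
  · exact allIv_sound scan29000 i (by omega) (by omega)
  by_cases c30000 : i < 31000
  · exact allIv_sound scan30000 i (by omega) (by omega)
  exact allIv_sound scan31000 i (by omega) (by omega)

end Cfsg.Agent.H46.Fi23Out
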