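import Cfsg.Agent.H25.Fi23.Group
import Cfsg.Agent.H25.Fi23.C31671AuxOK
import Cfsg.Agent.H46.Fi23Out.ScanOK
import Cfsg.Agent.H46.Fi23Out.CertA

/-!
The points of the table as conjugates of the central involution of the stabiliser.
-/

set_option autoImplicit false
set_option maxRecDepth 100000

namespace Cfsg.Agent.H46.Fi23Out

open Cfsg.Agent.H25.Fi23
open Cfsg.Agent.H45 (evalW evalW_cons evalW_nil evalW_append force force_eq)

/-- the group -/
abbrev G : Type := X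

/-- the letters -/
abbrev e : ℕ → G := pres.e

/-- the number of points -/
abbrev N : ℕ := C31671.cert.n

theorem N_eq : N = 31671 := rfl

/-- the first point -/
def P0 : Fin N := ⟨0, n_pos⟩

/-- the word of the central involution -/
def wordZ : List ℕ := (List.replicate 9 C31671.wordV).flatten

/-- the central involution of the stabiliser -/
noncomputable def z : G := (evalW e wordZ)⁻¹

/-- a conjugate of the central involution -/
noncomputable def cj (g : G) : G := g * z * g⁻¹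

/-- an element moving the first point to the point of the first generator -/
noncomputable def g0 : G := (evalW e Data.u0)⁻¹

/-- the conjugate of the first generator given by a word -/
noncomputable def TT (v : List ℕ) : G := (evalW e v)⁻¹ * e 0 * evalW e v

theorem e_sq (l : ℕ) : e l * e l = 1 := pres_sq l

theorem e_inv' (l : ℕ) : (e l)⁻¹ = e l := inv_eq_of_mul_eq_one_right (e_sq l)

theorem evalW_conjW (v : List ℕ) : evalW e (conjW v) = TT v := by
  rw [conjW, evalW_append, evalW_cons, evalW_reverse, TT, mul_assoc]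

theorem cj_mul (h g : G) : cj (h * g) = h * cj g * h⁻¹ := by
  simp only [cj]; group

theorem cj_one : cj 1 = z := by simp [cj]

theorem lt_of_all {w : List ℕ} (h : (w.all fun l => Nat.blt l 10) = true) : ∀ l ∈ w, l < 10 := by
  simpa [List.all_eq_true, Nat.blt_eq] using h

theorem conjW_lt {u : List ℕ} (h : ∀ l ∈ u, l < 10) : ∀ l ∈ conjW u, l < 10 := by
  intro l hl
  simp only [conjW, List.mem_append, List.mem_reverse, List.mem_cons] at hl
  rcases hl with hl | rfl | hl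
  · exact h l hl
  · norm_num
  · exact h l hl

theorem wordZ_lt : ∀ l ∈ wordZ, l < 10 := by decide

theorem g13_lt : ∀ l ∈ Data.g13, l < 10 := by decide

theorem u0_lt : ∀ l ∈ Data.u0, l < 10 := lt_of_all base_ok.2.1

/-- the permutation representation -/
structure Rep (φ : G →* Equiv.Perm (Fin N)) : Prop where
  act : Act C31671.cert_ok e φ
  inj : Function.Injective φ
  stab : ∀ g : G, φ g P0 = P0 ↔ g ∈ H

theorem exists_rep : ∃ φ : G →* Equiv.Perm (Fin N), Rep φ := by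
  obtain ⟨-, -, φ, hA, hinj, hfix, F, hF0, hF⟩ := order_facts
  refine ⟨φ, hA, hinj, fun g => ⟨fun hg => ?_, fun hg => hfix g hg⟩⟩
  have h1 : F (g • QuotientGroup.mk (1 : X)) = F (QuotientGroup.mk (1 : X)) := by
    rw [hF, hF0]; exact hg
  have h2 : (QuotientGroup.mk (g * 1) : X ⧸ H) = QuotientGroup.mk (1 : X) := F.injective h1
  simpa using QuotientGroup.eq.mp h2.symm

variable {φ : G →* Equiv.Perm (Fin N)}

theorem Rep.walk (R : Rep φ) {w : List ℕ} (hw : ∀ l ∈ w, l < 10) (x : Fin N) :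
    ((φ (evalW e w))⁻¹ x : ℕ) = walkV t31 w x := by
  rw [R.act.evalW w hw, sg_walk C31671.cert_ok w hw]

theorem Rep.letter (R : Rep φ) {l : ℕ} (hl : l < 10) (x : Fin N) :
    (φ (e l) x : ℕ) = tgt t31 x l := by
  rw [R.act.map l hl, sg_apply C31671.cert_ok hl]

theorem Rep.fix_inv (_R : Rep φ) {g : G} {x : Fin N} (h : φ g x = x) : φ g⁻¹ x = x := by
  rw [map_inv]
  exact (Equiv.Perm.inv_eq_iff_eq.mpr h.symm)

theorem Rep.fix_of_walk (R : Rep φ) {w : List ℕ} (hw : ∀ l ∈ w, l < 10) {x : Fin N}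
    (h : walkV t31 w x = x) : φ (evalW e w) x = x := by
  have h1 : (φ (evalW e w))⁻¹ x = x := Fin.ext (by rw [R.walk hw, h])
  exact (Equiv.Perm.eq_inv_iff_eq.mp h1.symm)

theorem Rep.walk_of_fix (R : Rep φ) {w : List ℕ} (hw : ∀ l ∈ w, l < 10) {x : Fin N}
    (h : φ (evalW e w) x = x) : walkV t31 w x = x := by
  rw [← R.walk hw, Equiv.Perm.eq_inv_iff_eq.mpr h |>.symm]

theorem aux_facts {i : ℕ} (hi : i < N) :
    walkV t31 C31671.wordV i = uget C31671.colV i ∧
      (uget C31671.colV)^[9] i = zget i ∧ zget (zget i) = i ∧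
      ∀ l ∈ [0, 1, 2, 3, 4, 5, 6, 8, 9], zget (tgt t31 i l) = tgt t31 (zget i) l := by
  have h := C31671.auxOK_all i hi
  simp only [C31671.auxOK, andB_eq, walk_eq, uiter_eq, Bool.and_eq_true, Nat.beq_eq,
    List.all_eq_true] at h
  obtain ⟨h1, h2, h3, h4, -⟩ := h
  exact ⟨h1.symm, h2.symm, h3, h4⟩

theorem Rep.zf (R : Rep φ) (x : Fin N) : (φ z x : ℕ) = zget x := by
  have hit : ∀ m p, p < N →
      walkV t31 (List.replicate m C31671.wordV).flatten p = (uget C31671.colV)^[m] p := by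
    intro m
    induction m with
    | zero => intro p _; rfl
    | succ m ih =>
      intro p hp
      have hl : ∀ l ∈ C31671.wordV, l < 10 := by decide
      rw [List.replicate_succ, List.flatten_cons, walkV_append,
        ih _ (walkV_lt C31671.cert_ok _ hl p hp), Function.iterate_succ_apply, (aux_facts hp).1]
  rw [z, map_inv, R.walk wordZ_lt, wordZ, hit 9 x x.isLt, (aux_facts x.isLt).2.1]

theorem Rep.z_sq (R : Rep φ) : z * z = 1 := by
  apply R.inj
  rw [map_mul, map_one]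
  apply Equiv.ext; intro x; apply Fin.ext
  rw [Equiv.Perm.mul_apply, R.zf, R.zf, (aux_facts x.isLt).2.2.1, Equiv.Perm.one_apply]

theorem z_mem_H : z ∈ H := by
  refine H.inv_mem ?_
  suffices h : ∀ w : List ℕ, (∀ l ∈ w, l ∈ hLetters) → evalW e w ∈ H from h wordZ (by decide)
  intro w
  induction w with
  | nil => intro _; rw [evalW_nil]; exact H.one_mem
  | cons a w ih =>
    intro h
    rw [evalW_cons]
    exact H.mul_mem (Subgroup.subset_closure ⟨a, h a (by simp), rfl⟩) (ih fun l hl => h l (by simp [hl]))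

theorem Rep.z_ne_one (R : Rep φ) : z ≠ 1 := by
  intro h
  have h1 := R.zf ⟨1, by rw [N_eq]; norm_num⟩
  rw [h, map_one, Equiv.Perm.one_apply] at h1
  have h2 : inS 1 = false := base_ok.2.2.2.2.2.2.2
  simp [inS, andB_eq, ← h1] at h2

theorem Rep.H_comm (R : Rep φ) : H ≤ Subgroup.centralizer {z} := by
  refine (Subgroup.closure_le _).mpr ?_
  rintro _ ⟨l, hl, rfl⟩
  rw [SetLike.mem_coe, Subgroup.mem_centralizer_singleton_iff]
  apply R.inj
  rw [map_mul, map_mul]
  apply Equiv.ext; intro x; apply Fin.ext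
  have hl10 : l < 10 := (fix_hLetters l hl).1
  rw [Equiv.Perm.mul_apply, Equiv.Perm.mul_apply, R.letter hl10, R.zf, R.zf, R.letter hl10]
  exact ((aux_facts x.isLt).2.2.2 l hl).symm

theorem Rep.inS_iff (R : Rep φ) (x : Fin N) : inS x = true ↔ x ≠ P0 ∧ φ z x = x := by
  simp only [inS, andB_eq, Bool.and_eq_true, Bool.not_eq_true', ← Bool.not_eq_true, Nat.beq_eq]
  constructor
  · rintro ⟨h0, h1⟩
    exact ⟨fun h => h0 (by rw [h]; rfl), Fin.ext (by rw [R.zf, h1])⟩
  · rintro ⟨h0, h1⟩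
    exact ⟨fun h => h0 (Fin.ext h), by rw [← R.zf, h1]⟩

theorem scan_facts {i : ℕ} (hi : i < N) :
    walkV t31 Data.g13 i = uget Data.colG i ∧ (uget Data.colG)^[13] i = i ∧
      (uget Data.colG i = i → i = 0 ∨ i = 1 ∨ i = 8006) ∧
      walkV t31 Data.u0 (zget (walkV t31 Data.u0.reverse i)) = tgt t31 i 0 := by
  have h := scan_all i hi
  simp only [scanOK, andB_eq, walk_eq, uiter_eq, ifB_eq, force_eq, Bool.and_eq_true,
    Nat.beq_eq] at h
  obtain ⟨h1, h2, h3, h4⟩ := h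
  refine ⟨h1.symm, h2, fun hfix => ?_, h4.symm⟩
  rw [show Nat.beq (uget Data.colG i) i = true by rw [Nat.beq_eq]; exact hfix, cond_true] at h3
  simp only [Bool.or_eq_true, Nat.beq_eq] at h3
  tauto

theorem Rep.g0_pt (R : Rep φ) : (φ g0 P0 : ℕ) = base := by
  rw [g0, map_inv, R.walk u0_lt]
  exact Nat.eq_of_beq_eq_true base_ok.1

theorem Rep.e0_eq (R : Rep φ) : e 0 = cj g0 := by
  apply R.inj
  apply Equiv.ext; intro x; apply Fin.ext
  rw [R.letter (by norm_num), cj, g0, inv_inv, map_mul, map_mul, Equiv.Perm.mul_apply,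
    Equiv.Perm.mul_apply, map_inv, R.walk u0_lt, R.zf, ← (scan_facts x.isLt).2.2.2]
  congr 2
  have hrev : ∀ l ∈ Data.u0.reverse, l < 10 := fun l hl => u0_lt l (List.mem_reverse.mp hl)
  rw [← R.walk hrev, evalW_reverse, map_inv, inv_inv]

theorem subG_lt : ∀ g ∈ subG, ∀ l ∈ g, l < 10 := by decide

theorem subG_mem : ∀ g ∈ subG, evalW e g ∈ H := by
  intro g hg
  simp only [subG, List.mem_cons, List.not_mem_nil, or_false] at hg
  rcases hg with rfl | rfl | rfl | rfl | rfl | rfl | rfl | rfl | rfl <;>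
    · rw [evalW_cons, evalW_nil, mul_one]
      exact Subgroup.subset_closure ⟨_, by decide, rfl⟩

theorem Rep.reach (R : Rep φ) (K : Subgroup G) {gens : List (List ℕ)}
    (hl : ∀ g ∈ gens, ∀ l ∈ g, l < 10) (hK : ∀ g ∈ gens, evalW e g ∈ K)
    {kids : List (ℕ × List ℕ)} {pred : ℕ → Bool}
    (h : covers C31671.cert gens kids pred = true) (x : Fin N) (hx : pred x = true) :
    ∃ bs ∈ kids, ∃ hb : bs.1 < N, ∃ k ∈ K, φ k ⟨bs.1, hb⟩ = x := by
  obtain ⟨bs, hbs, hb, hY⟩ := covers_sound C31671.cert_ok hl h x hx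
  obtain ⟨⟨y, hy⟩, hyx⟩ := hY (K.map φ)
    (fun g hg => ⟨_, hK g hg, R.act.evalW g (hl g hg)⟩)
  obtain ⟨k, hk, rfl⟩ := hy
  exact ⟨bs, hbs, hb, k, hk, hyx⟩

theorem Rep.reachL (R : Rep φ) (K : Subgroup G) {gens : List (List ℕ)}
    (hl : ∀ g ∈ gens, ∀ l ∈ g, l < 10) (hK : ∀ g ∈ gens, evalW e g ∈ K)
    {L : List ℕ} {kids : List (ℕ × List ℕ)} {pred : ℕ → Bool}
    (h : coversL C31671.cert L gens kids pred = true) (x : Fin N) (hx : pred x = true)
    (hxL : (x : ℕ) ∈ L) : ∃ bs ∈ kids, ∃ hb : bs.1 < N, ∃ k ∈ K, φ k ⟨bs.1, hb⟩ = x := by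
  obtain ⟨bs, hbs, hb, hY⟩ := coversL_sound C31671.cert_ok hl h x hx hxL
  obtain ⟨⟨y, hy⟩, hyx⟩ := hY (K.map φ)
    (fun g hg => ⟨_, hK g hg, R.act.evalW g (hl g hg)⟩)
  obtain ⟨k, hk, rfl⟩ := hy
  exact ⟨bs, hbs, hb, k, hk, hyx⟩

/-- the points of the orbit of the stabiliser on the neighbours -/
theorem Rep.S_orbit (R : Rep φ) (x : Fin N) (hx : inS x = true) :
    ∃ h ∈ H, φ (h * g0) P0 = x := by
  obtain ⟨bs, hbs, hb, h, hh, hhx⟩ := R.reach H subG_lt subG_mem stS_ok x hx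
  rw [List.mem_singleton] at hbs; subst hbs
  refine ⟨h, hh, ?_⟩
  rw [map_mul, Equiv.Perm.mul_apply, ← hhx]
  congr 1
  exact Fin.ext R.g0_pt

theorem Rep.comm_iff_fix0 (R : Rep φ) (g : G) : φ g P0 = P0 ↔ g * z = z * g := by
  rw [R.stab]
  constructor
  · intro h; exact Subgroup.mem_centralizer_singleton_iff.mp (R.H_comm h)
  intro hg
  rw [← R.stab]
  by_contra hne
  have hz0 : φ z P0 = P0 := (R.stab z).mpr z_mem_H
  have hfix : φ z (φ g P0) = φ g P0 := by
    rw [← Equiv.Perm.mul_apply, ← map_mul, ← hg, map_mul, Equiv.Perm.mul_apply, hz0]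
  obtain ⟨h, hh, hhx⟩ := R.S_orbit (φ g P0) ((R.inS_iff _).mpr ⟨hne, hfix⟩)
  have hH : (h * g0)⁻¹ * g ∈ H := by
    rw [← R.stab, map_mul, Equiv.Perm.mul_apply, map_inv, ← hhx, Equiv.Perm.inv_def,
      Equiv.symm_apply_apply]
  have hac := Subgroup.mem_centralizer_singleton_iff.mp (R.H_comm hH)
  have hha := Subgroup.mem_centralizer_singleton_iff.mp (R.H_comm hh)
  have e1 : cj ((h * g0)⁻¹ * g) = z := by rw [cj, hac, mul_inv_cancel_right]
  have e2 : cj g = z := by rw [cj, hg, mul_inv_cancel_right]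
  rw [cj_mul, e2, inv_inv] at e1
  have e3 : h * e 0 * h⁻¹ = z := by
    rw [R.e0_eq, ← cj_mul]
    calc cj (h * g0) = (h * g0) * z * (h * g0)⁻¹ := rfl
      _ = (h * g0) * ((h * g0)⁻¹ * z * (h * g0)) * (h * g0)⁻¹ := by rw [e1]
      _ = z := by group
  have e4 : e 0 = z := by
    calc e 0 = h⁻¹ * (h * e 0 * h⁻¹) * h := by group
      _ = h⁻¹ * z * h := by rw [e3]
      _ = z := by rw [mul_assoc, ← hha, inv_mul_cancel_left]
  have hp : ptOf [1, 0] < N := walkV_lt C31671.cert_ok _ (by decide) _ (by decide +kernel)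
  have h5 := R.letter (l := 0) (by norm_num) ⟨_, hp⟩
  rw [e4] at h5
  have h6 : φ z ⟨ptOf [1, 0], hp⟩ = ⟨ptOf [1, 0], hp⟩ :=
    ((R.inS_iff ⟨_, hp⟩).mp base_ok.2.2.2.2.2.1).2
  rw [h6] at h5
  simp only [] at h5
  have h7 := base_ok.2.2.2.2.2.2.1
  rw [show Nat.beq (tgt t31 (ptOf [1, 0]) 0) (ptOf [1, 0]) = true by
    rw [Nat.beq_eq]; exact h5.symm] at h7
  exact absurd h7 (by simp)

theorem Rep.cj_eq (R : Rep φ) (g x : G) : φ g P0 = φ x P0 ↔ cj g = cj x := by
  have h1 : φ g P0 = φ x P0 ↔ φ (x⁻¹ * g) P0 = P0 := by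
    rw [map_mul, Equiv.Perm.mul_apply, map_inv, Equiv.Perm.inv_eq_iff_eq]
  rw [h1, R.comm_iff_fix0]
  simp only [cj]
  constructor
  · intro h
    calc g * z * g⁻¹ = x * (x⁻¹ * g * z) * g⁻¹ := by group
      _ = x * (z * (x⁻¹ * g)) * g⁻¹ := by rw [h]
      _ = x * z * x⁻¹ := by group
  · intro h
    calc x⁻¹ * g * z = x⁻¹ * (g * z * g⁻¹) * g := by group
      _ = x⁻¹ * (x * z * x⁻¹) * g := by rw [h]
      _ = z * (x⁻¹ * g) := by group

theorem Rep.fix_iff_comm (R : Rep φ) (g x : G) :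
    φ (cj g) (φ x P0) = φ x P0 ↔ cj g * cj x = cj x * cj g := by
  rw [← Equiv.Perm.mul_apply, ← map_mul, R.cj_eq, cj_mul]
  exact mul_inv_eq_iff_eq_mul

theorem Rep.fixT (R : Rep φ) {g x : G} (hg : g * cj x = cj x * g) : φ g (φ x P0) = φ x P0 := by
  rw [← Equiv.Perm.mul_apply, ← map_mul, R.cj_eq, cj_mul]
  exact mul_inv_eq_iff_eq_mul.mpr hg

theorem Rep.comm_of_fix (R : Rep φ) {g x : G} (h : φ g (φ x P0) = φ x P0) :
    g * cj x = cj x * g := by
  rw [← Equiv.Perm.mul_apply, ← map_mul, R.cj_eq, cj_mul] at h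
  exact mul_inv_eq_iff_eq_mul.mp h

/-- the element whose point is the one of a word -/
noncomputable def gv (v : List ℕ) : G := (evalW e v)⁻¹ * g0

theorem Rep.TT_cj (R : Rep φ) (v : List ℕ) : TT v = cj (gv v) := by
  rw [TT, gv, cj_mul, inv_inv, R.e0_eq]

theorem Rep.pt (R : Rep φ) {v : List ℕ} (hv : ∀ l ∈ v, l < 10) :
    (φ (gv v) P0 : ℕ) = ptOf v := by
  rw [gv, map_mul, Equiv.Perm.mul_apply, map_inv, R.walk hv, R.g0_pt, ptOf]

theorem Rep.fixT_iff (R : Rep φ) {v : List ℕ} (hv : ∀ l ∈ v, l < 10) (x : Fin N) :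
    Fi23Out.fixT v x = true ↔ φ (TT v) x = x := by
  rw [Fi23Out.fixT, walk_eq, Nat.beq_eq, ← evalW_conjW]
  exact ⟨R.fix_of_walk (conjW_lt hv), R.walk_of_fix (conjW_lt hv)⟩

theorem braid_conj {A : Type*} [Group A] {a b : A} (ha : a * a = 1) (hb : b * b = 1)
    (h : a * (b * (a * (b * (a * b)))) = 1 ∨ b * (a * (b * (a * (b * a)))) = 1) :
    b * a * b * a * b = a := by
  have h' : a * (b * (a * (b * (a * b)))) = 1 := by
    rcases h with h | h
    · exact h
    · have h3 := congrArg Inv.inv h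
      simpa [mul_assoc, inv_eq_of_mul_eq_one_right ha, inv_eq_of_mul_eq_one_right hb] using h3
  have h2 := inv_eq_of_mul_eq_one_right h'
  rw [inv_eq_of_mul_eq_one_right ha] at h2
  calc b * a * b * a * b = b * (a * (b * (a * b))) := by group
    _ = a := h2.symm

theorem cu_eq : Data.cu = [[], [1, 0], [1, 0, 2, 1], [1, 0, 2, 1, 3, 2], [1, 0, 2, 1, 3, 2, 4, 3],
    [1, 0, 2, 1, 3, 2, 4, 3, 5, 4], [1, 0, 2, 1, 3, 2, 4, 3, 5, 4, 6, 5],
    [1, 0, 2, 1, 3, 2, 4, 3, 5, 4, 6, 5, 7, 6], [1, 0, 2, 1, 3, 2, 8, 3],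
    [1, 0, 2, 1, 3, 2, 8, 3, 9, 8]] := eq_of_beq cu_ok

theorem TT_nil : TT [] = e 0 := by simp [TT, evalW]

theorem TT_step {u : List ℕ} {k l : ℕ} (hu : TT u = e k)
    (hR : [l, k, l, k, l, k] ∈ pres.R ∨ [k, l, k, l, k, l] ∈ pres.R) :
    TT (u ++ [l, k]) = e l := by
  have h : e l * (e k * (e l * (e k * (e l * e k)))) = 1 ∨
      e k * (e l * (e k * (e l * (e k * e l)))) = 1 := by
    rcases hR with hR | hR
    · left; simpa [evalW] using pres_ok.rel _ hR
    · right; simpa [evalW] using pres_ok.rel _ hR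
  rw [TT, evalW_append, mul_inv_rev]
  calc (evalW e [l, k])⁻¹ * (evalW e u)⁻¹ * e 0 * (evalW e u * evalW e [l, k])
      = (evalW e [l, k])⁻¹ * TT u * evalW e [l, k] := by rw [TT]; group
    _ = (e k * e l) * e k * (e l * e k) := by simp [evalW, hu, e_inv']
    _ = e k * e l * e k * e l * e k := by group
    _ = e l := braid_conj (e_sq l) (e_sq k) h

theorem braid_rels : ([(1, 0), (2, 1), (3, 2), (4, 3), (5, 4), (6, 5), (7, 6), (8, 3), (9, 8)].all
    fun lk : ℕ × ℕ => decide ([lk.1, lk.2, lk.1, lk.2, lk.1, lk.2] ∈ pres.R ∨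
      [lk.2, lk.1, lk.2, lk.1, lk.2, lk.1] ∈ pres.R)) = true := by decide +kernel

theorem e_eq_TT {l : ℕ} (hl : l < 10) : e l = TT (Data.cu.getD l []) := by
  have hb : ∀ l k : ℕ, (l, k) ∈ [(1, 0), (2, 1), (3, 2), (4, 3), (5, 4), (6, 5), (7, 6), (8, 3),
      (9, 8)] → [l, k, l, k, l, k] ∈ pres.R ∨ [k, l, k, l, k, l] ∈ pres.R :=
    fun l k h => of_decide_eq_true (List.all_eq_true.mp braid_rels (l, k) h)
  have h1 := TT_step (u := []) TT_nil (hb 1 0 (by decide))
  have h2 := TT_step h1 (hb 2 1 (by decide))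
  have h3 := TT_step h2 (hb 3 2 (by decide))
  have h4 := TT_step h3 (hb 4 3 (by decide))
  have h5 := TT_step h4 (hb 5 4 (by decide))
  have h6 := TT_step h5 (hb 6 5 (by decide))
  have h7 := TT_step h6 (hb 7 6 (by decide))
  have h8 := TT_step h3 (hb 8 3 (by decide))
  have h9 := TT_step h8 (hb 9 8 (by decide))
  rw [cu_eq]
  interval_cases l
  exacts [TT_nil.symm, h1.symm, h2.symm, h3.symm, h4.symm, h5.symm, h6.symm, h7.symm, h8.symm,
    h9.symm]

theorem cu_lt' (l : ℕ) : ∀ i ∈ Data.cu.getD l [], i < 10 := by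
  rw [cu_eq, List.getD_eq_getElem?_getD]
  rcases Nat.lt_or_ge l 10 with h | h
  · interval_cases l <;> decide
  · simp [List.getElem?_eq_none, h]

theorem Rep.cu_inS (R : Rep φ) {l : ℕ} (hl : l < 10) :
    inS (φ (gv (Data.cu.getD l [])) P0 : Fin N) = decide (l ≠ 7) := by
  rw [R.pt (cu_lt' l)]
  by_cases h7 : l = 7
  · subst h7; simpa using cu_S.2.1
  · rw [decide_eq_true h7]
    refine List.all_eq_true.mp cu_S.1 l ?_
    simp only [List.mem_cons, List.not_mem_nil, or_false]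
    omega

end Cfsg.Agent.H46.Fi23Out
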